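import Cfsg.Agent.H696.GmnTorSetup
import Cfsg.Agent.H507.GmnCover
import Cfsg.Agent.H712.GmnStrong

/-!
# Guralnick-Malle-Navarro rows: the torus with `p = 5` (`E₆`, `²E₆`)

* `rowS_core` : an elementary abelian subgroup `E` of `S` such that no other elementary abelian subgroup of the same order
  normalises `E`, and an element of `S` acting on `E` with determinant `≠ 1` : `RowS p S`.
* `rowS_five` : a finite group containing the `5`-torsion of a torus and a lift of a simple reflection.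
-/

set_option autoImplicit false
set_option linter.unusedSectionVars false
set_option linter.style.haveILetI false

namespace Cfsg.Agent.H142.GmnCoreFive

open Subgroup Cfsg.Agent.H712.Gmn

section Core

/-- a subgroup containing the normaliser of its Sylow subgroup has index prime to `p` -/
theorem not_dvd_index {Γ : Type*} [Group Γ] [Finite Γ] {p : ℕ} [hp : Fact p.Prime] {H : Subgroup Γ} (P : Sylow p ↥H)
    (hN : normalizer (((P : Subgroup ↥H).map H.subtype : Subgroup Γ) : Set Γ) ≤ H) : ¬ p ∣ H.index := by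
  set P' : Subgroup Γ := (P : Subgroup ↥H).map H.subtype with hP'
  have hP'H : P' ≤ H := map_subtype_le _
  have h3 : P'.relIndex H = (P : Subgroup ↥H).index := by
    rw [Subgroup.relIndex, hP', Subgroup.subgroupOf, comap_map_eq_self_of_injective H.subtype_injective]
  obtain ⟨n, hn⟩ := IsPGroup.iff_card.1 (P.isPGroup'.map H.subtype)
  have h1 : P'.relIndex (normalizer (P' : Set Γ)) ≡ P'.index [MOD p] :=
    Sylow.card_quotient_normalizer_modEq_card_quotient hn
  have h2 : P'.relIndex (normalizer (P' : Set Γ)) ∣ (P : Subgroup ↥H).index := by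
    rw [← h3, ← relIndex_mul_relIndex P' _ H le_normalizer hN]
    exact Dvd.intro _ rfl
  intro hd
  have h4 : p ∣ P'.index := hd.trans (index_dvd_of_le hP'H)
  have h5 : p ∣ P'.relIndex (normalizer (P' : Set Γ)) :=
    (Nat.modEq_zero_iff_dvd).1 (h1.trans ((Nat.modEq_zero_iff_dvd).2 h4))
  exact P.not_dvd_index (h5.trans h2)

variable {S : Type*} [Group S] {p : ℕ} [hp : Fact p.Prime] (E : Subgroup S)

/-- the stabiliser of `E` in the automorphism group -/
def St : Subgroup (MulAut S) where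
  carrier := {α | ∀ x, α x ∈ E ↔ x ∈ E}
  one_mem' := fun _ => Iff.rfl
  mul_mem' := fun {a b} ha hb x => (ha (b x)).trans (hb x)
  inv_mem' := fun {a} ha x => by
    have h1 := ha (a⁻¹ x)
    rw [MulAut.apply_inv_self] at h1
    exact h1.symm

variable {E}

theorem mem_St {α : MulAut S} : α ∈ St E ↔ ∀ x, α x ∈ E ↔ x ∈ E := Iff.rfl

theorem conj_mem_St [Finite S] {s : S} (hs : ∀ y ∈ E, s * y * s⁻¹ ∈ E) : MulAut.conj s ∈ St E := by
  have h1 : s ∈ normalizer (E : Set S) := by
    rw [Subgroup.mem_normalizer_iff]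
    intro x
    refine ⟨hs x, fun hx => ?_⟩
    let f : ↥E → ↥E := fun x => ⟨s * x * s⁻¹, hs x x.2⟩
    have hf : Function.Injective f := by
      intro a b hab
      have := congrArg Subtype.val hab
      exact Subtype.ext (mul_left_cancel (mul_right_cancel this))
    obtain ⟨y, hy⟩ := (Finite.injective_iff_surjective.1 hf) ⟨s * x * s⁻¹, hx⟩
    have h2 := congrArg Subtype.val hy
    have h3 : (y : S) = x := mul_left_cancel (mul_right_cancel h2)
    rw [← h3]
    exact y.2
  intro x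
  rw [MulAut.conj_apply]
  exact ((Subgroup.mem_normalizer_iff.1 h1) x).symm

variable (hEc : ∀ x ∈ E, ∀ y ∈ E, x * y = y * x) (hEp : ∀ x ∈ E, x ^ p = 1)

include hEc hEp in
/-- the index of the stabiliser -/
theorem index_St [Finite S] (huniq : ∀ E' : Subgroup S, (∀ x ∈ E', ∀ y ∈ E', x * y = y * x) → (∀ x ∈ E', x ^ p = 1) →
      Nat.card E' = Nat.card E → (∀ x ∈ E', ∀ y ∈ E, x * y * x⁻¹ ∈ E) → E' = E) : ¬ p ∣ (St E).index := by
  have hfin := finite_mulAut (S := S)
  obtain ⟨P⟩ : Nonempty (Sylow p ↥(St E)) := inferInstance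
  refine not_dvd_index P fun γ hγ => ?_
  -- `conj E` is contained in `P`
  have hEE : ∀ x ∈ E, MulAut.conj x ∈ St E := fun x hx => conj_mem_St fun y hy =>
    mul_mem (mul_mem hx hy) (inv_mem hx)
  let Ê : Subgroup ↥(St E) := ((E.map MulAut.conj : Subgroup (MulAut S))).subgroupOf (St E)
  have hn : Ê.Normal := by
    refine ⟨?_⟩
    rintro ⟨a, ha⟩ ⟨x, hx, e⟩ ⟨g, hg⟩
    have e' : MulAut.conj x = a := e
    refine ⟨g x, (hg x).2 hx, ?_⟩
    show MulAut.conj (g x) = g * a * g⁻¹
    rw [← e', mul_conj_inv]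
  have hÊp : IsPGroup p Ê := by
    rintro ⟨⟨a, ha⟩, ⟨x, hx, e⟩⟩
    have e' : MulAut.conj x = a := e
    refine ⟨1, Subtype.ext (Subtype.ext ?_)⟩
    show a ^ p ^ 1 = 1
    rw [pow_one, ← e', ← map_pow, hEp x hx, map_one]
  have hÊP : Ê ≤ P := by
    have h1 : IsPGroup p (↥((P : Subgroup ↥(St E)) ⊔ Ê)) := P.2.to_sup_of_normal_right hÊp
    have h2 : (P : Subgroup ↥(St E)) ⊔ Ê = P := P.3 h1 le_sup_left
    rw [← h2]
    exact le_sup_right
  have hPmem : ∀ x ∈ E, MulAut.conj x ∈ (P : Subgroup ↥(St E)).map (St E).subtype := fun x hx =>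
    ⟨⟨MulAut.conj x, hEE x hx⟩, hÊP ⟨x, hx, rfl⟩, rfl⟩
  -- the image of `E`
  have h3 : E.map γ.toMonoidHom = E := by
    refine huniq _ ?_ ?_ ?_ ?_
    · rintro _ ⟨x, hx, rfl⟩ _ ⟨y, hy, rfl⟩
      show γ x * γ y = γ y * γ x
      rw [← map_mul, hEc x hx y hy, map_mul]
    · rintro _ ⟨x, hx, rfl⟩
      show (γ x) ^ p = 1
      rw [← map_pow, hEp x hx, map_one]
    · exact Subgroup.card_map_of_injective (f := γ.toMonoidHom) γ.injective
    · rintro _ ⟨x, hx, rfl⟩ y hy
      have h4 := (Subgroup.mem_normalizer_iff.1 hγ _).1 (hPmem x hx)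
      obtain ⟨⟨a, ha⟩, -, e⟩ := h4
      have e' : a = γ * MulAut.conj x * γ⁻¹ := e
      have h5 := (ha y).2 hy
      rw [e', mul_conj_inv] at h5
      exact h5
  intro x
  constructor
  · intro h4
    rw [← h3] at h4
    obtain ⟨y, hy, e⟩ := h4
    rw [← γ.injective e]
    exact hy
  · intro h4
    rw [← h3]
    exact ⟨x, h4, rfl⟩

/-- the determinant of an action on a vector space over `ZMod p` -/
theorem exists_det_aux {H V : Type*} [Group H] [AddCommGroup V] [Finite V] [Module (ZMod p) V] (a : H → V → V)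
    (h1 : ∀ v, a 1 v = v) (hmul : ∀ x y v, a (x * y) v = a x (a y v)) (hadd : ∀ x v w, a x (v + w) = a x v + a x w) :
    ∃ f : H →* (ZMod p)ˣ, (∀ x, (∀ v, a x v = v) → f x = 1) ∧
      ∀ (x : H) (F : V →+ ZMod p) (u : V), (∀ v, a x v = v + F v • u) → ((f x : (ZMod p)ˣ) : ZMod p) = 1 + F u := by
  let g : H → V →+ V := fun x => AddMonoidHom.mk' (a x) (hadd x)
  let e : H →* (V ≃ₗ[ZMod p] V) :=
    { toFun := fun x =>
        { toFun := a x
          invFun := a x⁻¹
          map_add' := hadd x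
          map_smul' := fun c v => ZMod.map_smul (g x) c v
          left_inv := fun v => by rw [← hmul, inv_mul_cancel, h1]
          right_inv := fun v => by rw [← hmul, mul_inv_cancel, h1] }
      map_one' := LinearEquiv.ext h1
      map_mul' := fun x y => LinearEquiv.ext (hmul x y) }
  refine ⟨(LinearEquiv.det).comp e, fun x hx => ?_, fun x F u hu => ?_⟩
  · have h2 : e x = 1 := LinearEquiv.ext hx
    rw [MonoidHom.comp_apply, h2, map_one]
  · rw [MonoidHom.comp_apply, LinearEquiv.coe_det]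
    have h2 : ((e x : V ≃ₗ[ZMod p] V) : V →ₗ[ZMod p] V) = LinearMap.transvection (AddMonoidHom.toZModLinearMap p F) u :=
      LinearMap.ext fun v => by
        rw [LinearMap.transvection.apply]
        exact hu v
    rw [h2, LinearMap.transvection.det]
    rfl

/-- the determinant on `E` -/
theorem exists_det [Finite S] (hEc : ∀ x ∈ E, ∀ y ∈ E, x * y = y * x) (hEp : ∀ x ∈ E, x ^ p = 1) :
    ∃ f : ↥(St E) →* (ZMod p)ˣ, (∀ α : ↥(St E), (∀ x ∈ E, (α : MulAut S) x = x) → f α = 1) ∧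
      ∀ (α : ↥(St E)) (m : ↥E → ZMod p) (u : ↥E), (∀ x y, m (x * y) = m x + m y) →
        (∀ x : ↥E, (α : MulAut S) x = x * (u : S) ^ (m x).val) → ((f α : (ZMod p)ˣ) : ZMod p) = 1 + m u := by
  classical
  have hc : ∀ x y : ↥E, x * y = y * x := fun x y => Subtype.ext (hEc x x.2 y y.2)
  letI : CommGroup ↥E := { (inferInstance : Group ↥E) with mul_comm := hc }
  have hEp' : ∀ x : Additive ↥E, p • x = 0 := by
    intro x
    have h1 : (x.toMul : ↥E) ^ p = 1 := Subtype.ext (hEp _ x.toMul.2)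
    exact congrArg Additive.ofMul h1
  letI : Module (ZMod p) (Additive ↥E) := AddCommGroup.zmodModule hEp'
  obtain ⟨f, hf1, hf2⟩ := exists_det_aux (p := p) (H := ↥(St E)) (V := Additive ↥E)
    (fun α x => Additive.ofMul ⟨(α : MulAut S) (x.toMul : ↥E), (α.2 _).2 x.toMul.2⟩) (fun v => rfl) (fun x y v => rfl)
    (fun x v w => congrArg Additive.ofMul (Subtype.ext (map_mul (x : MulAut S) _ _)))
  refine ⟨f, fun α hα => hf1 α fun v => congrArg Additive.ofMul (Subtype.ext (hα _ v.toMul.2)), fun α m u hm hu => ?_⟩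
  let mm : Additive ↥E →+ ZMod p := AddMonoidHom.mk' (fun x => m x.toMul) (fun x y => hm _ _)
  refine hf2 α mm (Additive.ofMul u) fun x => ?_
  have h2 : (mm x) • (Additive.ofMul u : Additive ↥E) = (m x.toMul).val • (Additive.ofMul u : Additive ↥E) := by
    show (m x.toMul) • (Additive.ofMul u : Additive ↥E) = _
    rw [← Nat.cast_smul_eq_nsmul (ZMod p), ZMod.natCast_val, ZMod.cast_id', id]
  rw [h2]
  refine congrArg Additive.ofMul (Subtype.ext ?_)
  exact hu x.toMul

include hEc hEp in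
/-- **The core.** -/
theorem rowS_core [Finite S] (hZ : center S = ⊥)
    (huniq : ∀ E' : Subgroup S, (∀ x ∈ E', ∀ y ∈ E', x * y = y * x) → (∀ x ∈ E', x ^ p = 1) →
      Nat.card E' = Nat.card E → (∀ x ∈ E', ∀ y ∈ E, x * y * x⁻¹ ∈ E) → E' = E) (s : S)
    (hs : ∀ y ∈ E, s * y * s⁻¹ ∈ E) (u : ↥E) (m : ↥E → ZMod p) (hm : ∀ x y, m (x * y) = m x + m y)
    (hsm : ∀ x : ↥E, s * x * s⁻¹ = x * (u : S) ^ (m x).val) (hu : m u ≠ 0) : RowS p S := by
  have hfin := finite_mulAut (S := S)
  obtain ⟨f, hf1, hf2⟩ := exists_det (p := p) hEc hEp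
  intro B hB Q hQ
  refine H507.Gmn.cover_strong hZ (MonoidHom.id (MulAut S)) (St E) (index_St hEc hEp huniq) (K := (ZMod p)ˣ) ?_ f ?_ E
    ?_ ?_ ?_ B hB (fun x _ => ⟨x, rfl⟩) Q ?_
  · rw [Nat.card_eq_fintype_card, ZMod.card_units]
    intro hd
    have := Nat.le_of_dvd (by have := hp.out.two_le; omega) hd
    have := hp.out.two_le
    omega
  · refine ⟨⟨MulAut.conj s, conj_mem_St hs⟩, ⟨s, rfl⟩, fun h1 => ?_⟩
    have h2 := hf2 ⟨MulAut.conj s, conj_mem_St hs⟩ m u hm fun x => hsm x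
    rw [h1, Units.val_one, left_eq_add] at h2
    exact hu h2
  · rintro ⟨x, hx⟩
    exact ⟨1, Subtype.ext (by rw [pow_one]; exact hEp x hx)⟩
  · intro w _ t ht
    exact (w.2 t).2 ht
  · intro w _ _ hw
    by_contra hcon
    push Not at hcon
    exact hw (hf1 w hcon)
  · rintro _ ⟨x, hx, rfl⟩
    exact hQ x hx

end Core

end Cfsg.Agent.H142.GmnCoreFive
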