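import Cfsg.Agent.H142.GmnSplit
import Cfsg.Agent.S2378
import Cfsg.Agent.S1063
import Cfsg.Agent.S1035
import Cfsg.Agent.S1093
import Cfsg.Agent.S1054

/-!
# Guralnick-Malle-Navarro row: `E₆(q)`

* `rowS_chev` : a simply laced Chevalley group over a field with `q` elements, `p ∣ q - 1`, the index of `N` prime
  to `p`;
* `rowS_e6` : `E₆(q)`, `p` odd, `p ∤ q`.
-/

set_option autoImplicit false
set_option linter.unusedSectionVars false

namespace Cfsg.Agent.H142.GmnE6

open CoxeterSystem Subgroup Cfsg Cfsg.Lie Cfsg.Lie.ChevalleyDatum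
open Cfsg.Agent.ChevalleyStructure Cfsg.Agent.ChevalleyStructure.Elts Cfsg.Agent.ChevalleyStructure.CoxeterGeom
  Cfsg.Agent.ChevalleyStructure.CoxeterGeomTypes Cfsg.Agent.ChevalleyStructure.NPerm
open Cfsg.Agent.Tits.Roots Cfsg.Agent.Tits.Core Cfsg.Agent.Nodes Cfsg.Agent.Nodes.Reps Cfsg.Agent.Nodes.BNOf
  Cfsg.Agent.Nodes.RGDChev Cfsg.Agent.Nodes.Bruhat
open Cfsg.Agent.KFacts.RgdField Cfsg.Agent.KFacts.RgdChevCoord Cfsg.Agent.KFacts.RgdRigid Cfsg.Agent.KFacts.RgdDiag
open Cfsg.Agent.BpExc Cfsg.Agent.BpExc.TorCent Cfsg.Agent.BpExc.TorChev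
open Cfsg.Agent.BpExc.FamFrame Cfsg.Agent.BpExc.RowsUntw Cfsg.Agent.BpExc.FamInst Cfsg.Agent.BpExc.FamUntw
open Cfsg.Agent.H696.GmnUntw Cfsg.Agent.H712.Gmn Cfsg.Agent.H142.GmnSplit

section Chev

variable {D : ChevalleyDatum} {l : ℕ} {M : CoxeterMatrix (Fin l)} (hp : IsType D l M) {F : Type} [Field F] [Fintype F]

include hp in
/-- the elements of order dividing `p` of the torus -/
def TP (F : Type) [Field F] (p : ℕ) : Subgroup ↥(D.group F) where
  carrier := {t | t ∈ TT D F ∧ t ^ p = 1}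
  one_mem' := ⟨one_mem _, one_pow _⟩
  mul_mem' := by
    rintro a b ⟨ha, ha'⟩ ⟨hb, hb'⟩
    refine ⟨mul_mem ha hb, ?_⟩
    rw [(show Commute a b from TT_comm hp a ha b hb).mul_pow, ha', hb', one_mul]
  inv_mem' := by
    rintro a ⟨ha, ha'⟩
    exact ⟨inv_mem ha, by rw [inv_pow, ha', inv_one]⟩

/-- an element of the torus with trivial characters -/
theorem eq_one_of_ch (r : ℕ) [Fact r.Prime] [CharP F r] (hZ : center ↥(D.group F) = ⊥) {t : ↥(D.group F)}
    (ht : t ∈ TT D F) (hc : ∀ i, ch hp (sr i) t = 1) : t = 1 := by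
  have hW := finite_W hp M.toCoxeterSystem
  have R := rgd (K := F) hp M.toCoxeterSystem r
  have C := coords (K := F) hp M.toCoxeterSystem r
  have hG1 : RGD.Sup (XX D l F) {x | IsRoot M.toCoxeterSystem hp.isCartan x} = ⊤ := G1_eq_top hp M.toCoxeterSystem
  have h1 := Diag.eq_one R hG1 (FamFrame.diag_conj R ht) fun i x hx => by
    have Ci := C.coord _ (isRoot_sr M.toCoxeterSystem hp.isCartan i)
    obtain ⟨a, rfl⟩ := (Ci.mem x).1 hx
    rw [MulAut.conj_apply, Ci.act t ht, hc i, one_mul]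
  have h2 : t ∈ center ↥(D.group F) := by
    rw [mem_center_iff]
    intro g
    have h3 : MulAut.conj t g = g := by rw [h1]; rfl
    rw [MulAut.conj_apply, mul_inv_eq_iff_eq_mul] at h3
    exact h3.symm
  rw [hZ] at h2
  exact h2

include hp in
/-- **The Chevalley groups with `p ∣ q - 1`.** -/
theorem rowS_chev {p : ℕ} [hpp : Fact p.Prime] (hp2 : p ≠ 2) (hZ : center ↥(D.group F) = ⊥) (r : ℕ) [Fact r.Prime]
    [CharP F r] (hl0 : 0 < l) (hl : ∀ i j : Fin l, i ≠ j → M i j = 2 ∨ M i j = 3) (hpq : p ∣ Fintype.card F - 1)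
    (hidx : ∀ n : ℕ, n * (Nat.card M.Group * Nat.card ↥(D.diagonalSubgroup F)) = Nat.card ↥(D.group F) → ¬ p ∣ n) :
    RowS p ↥(D.group F) := by
  classical
  have hW := finite_W hp M.toCoxeterSystem
  have R := rgd (K := F) hp M.toCoxeterSystem r
  have C := coords (K := F) hp M.toCoxeterSystem r
  have hG1 : RGD.Sup (XX D l F) {x | IsRoot M.toCoxeterSystem hp.isCartan x} = ⊤ := G1_eq_top hp M.toCoxeterSystem
  have : Nonempty (Fin l) := ⟨⟨0, hl0⟩⟩
  have hT : Nat.card ↥(TT D F) = Nat.card ↥(D.diagonalSubgroup F) :=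
    Nat.card_congr (subgroupOfEquivOfLe (diagonal_le_group hp.inList F)).toEquiv
  refine rowS_split R hp2 hG1 hZ hl ?_ (TP hp F p) ?_ ?_ ?_
  · refine hidx _ ?_
    rw [← (NN M.toCoxeterSystem R.nsys).index_mul_card, card_NN R, hT]
  · rintro ⟨t, ht, ht'⟩
    exact ⟨1, Subtype.ext (by rw [pow_one]; exact ht')⟩
  · rintro w k hk t ⟨ht, ht'⟩
    refine ⟨(Subgroup.mem_normalizer_iff.1 hk.mem_normalizer t).1 ht, ?_⟩
    rw [conj_pow, ht', mul_one, mul_inv_cancel]
  · intro w k hk hfix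
    refine det_eq_one hp2 w fun i j => ?_
    -- an element of order `p` of the field
    obtain ⟨c, hcp⟩ : ∃ c : Fˣ, orderOf c = p := by
      refine exists_prime_orderOf_dvd_card' p ?_
      rw [Nat.card_units, Nat.card_eq_fintype_card]
      exact hpq
    have hc0 : (c : F) ≠ 0 := c.ne_zero
    have hroot := isRoot_sr M.toCoxeterSystem hp.isCartan i
    have hch : ∀ {x : Fin l → ℤ}, IsRoot M.toCoxeterSystem hp.isCartan x →
        ch hp x (hc hp j (c : F)) = ((c ^ pairing (cartanOf D l) j x : Fˣ) : F) := by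
      intro x hx
      obtain ⟨s, hs, rfl⟩ := (isRoot_iff hp M.toCoxeterSystem x).1 hx
      rw [ch_hc hp j hc0 hs, pairing_vec hp j hs, Units.val_zpow_eq_zpow_val]
    have hmem := hc_mem hp j hc0
    have hpow : (hc hp j (c : F)) ^ p = 1 := by
      refine eq_one_of_ch hp r hZ (pow_mem hmem p) fun i => ?_
      have Ci := C.coord _ (isRoot_sr M.toCoxeterSystem hp.isCartan i)
      have h1 : ∀ m : ℕ, ch hp (sr i) (hc hp j (c : F) ^ m) =
          ch hp (sr i) (hc hp j (c : F)) ^ m := by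
        intro m
        induction m with
        | zero =>
          have h2 := Ci.chi_mul (one_mem _) (one_mem _)
          rw [mul_one] at h2
          rw [pow_zero, pow_zero]
          exact (mul_eq_left₀ (Ci.chi_ne_zero (one_mem _))).1 h2.symm
        | succ m ih => rw [pow_succ, pow_succ, Ci.chi_mul (pow_mem hmem m) hmem, ih]
      rw [h1, hch (isRoot_sr M.toCoxeterSystem hp.isCartan i), ← Units.val_pow_eq_pow_val, ← zpow_natCast, ← zpow_mul,
        mul_comm, zpow_mul, zpow_natCast, ← hcp, pow_orderOf_eq_one, one_zpow, Units.val_one]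
    have h1 := C.chi_rp R.nsys hk hroot hmem
    rw [hfix _ ⟨hmem, hpow⟩, hch (hroot.act w), hch hroot] at h1
    have h2 := Units.ext h1
    have h3 : c ^ (pairing (cartanOf D l) j (rep M.toCoxeterSystem hp.isCartan w (sr i)) -
        pairing (cartanOf D l) j (sr i)) = 1 := by rw [zpow_sub, h2, mul_inv_cancel]
    rw [← orderOf_dvd_iff_zpow_eq_one, hcp] at h3
    have h4 : pairing (cartanOf D l) j (rep M.toCoxeterSystem hp.isCartan w (sr i) - sr i) =
        pairing (cartanOf D l) j (rep M.toCoxeterSystem hp.isCartan w (sr i)) - pairing (cartanOf D l) j (sr i) :=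
      map_sub (pr (cartanOf D l) j) _ _
    rw [h4]
    exact h3

end Chev

/-! ### numbers -/

section Num

variable {p : ℕ} [hpp : Fact p.Prime]

theorem lte (hp2 : p ≠ 2) {q d : ℕ} (hq : 1 < q) (hpq : p ∣ q - 1) (hd : d ≠ 0) :
    padicValNat p (q ^ d - 1) = padicValNat p (q - 1) + padicValNat p d := by
  have hodd : Odd p := hpp.out.odd_of_ne_two hp2
  have h1 : ¬ p ∣ q := by
    intro h2
    have h3 := (Nat.dvd_sub h2 hpq)
    rw [Nat.sub_sub_self hq.le] at h3
    exact hpp.out.one_lt.ne' (Nat.dvd_one.1 h3)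
  have h2 := padicValNat.pow_sub_pow (p := p) hodd (x := q) (y := 1) hq hpq h1 hd
  rwa [one_pow] at h2

theorem not_dvd_idx (hp2 : p ≠ 2) {q n t g N : ℕ} (hq : 1 < q) (hpq : p ∣ q - 1)
    (h1 : n * (51840 * t) = N)
    (h2 : g * N = q ^ 36 * (q ^ 2 - 1) * (q ^ 5 - 1) * (q ^ 6 - 1) * (q ^ 8 - 1) * (q ^ 9 - 1) * (q ^ 12 - 1))
    (h3 : g * t = (q - 1) ^ 6) : ¬ p ∣ n := by
  have hq1 : q - 1 ≠ 0 := by omega
  have hpos : ∀ d : ℕ, d ≠ 0 → q ^ d - 1 ≠ 0 := by
    intro d hd
    have := Nat.one_lt_pow hd hq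
    omega
  have hpq' : ¬ p ∣ q := by
    intro h2
    have h3 := (Nat.dvd_sub h2 hpq)
    rw [Nat.sub_sub_self hq.le] at h3
    exact hpp.out.one_lt.ne' (Nat.dvd_one.1 h3)
  have hq0 : q ≠ 0 := by omega
  have h4 : n * ((2 * 5 * 6 * 8 * 9 * 12) * (q - 1) ^ 6) =
      q ^ 36 * ((q ^ 2 - 1) * (q ^ 5 - 1) * (q ^ 6 - 1) * (q ^ 8 - 1) * (q ^ 9 - 1) * (q ^ 12 - 1)) := by
    rw [← h3]
    calc n * ((2 * 5 * 6 * 8 * 9 * 12) * (g * t)) = g * (n * (51840 * t)) := by ring
      _ = _ := by rw [h1, h2]; ring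
  have hn0 : n ≠ 0 := by
    rintro rfl
    rw [zero_mul] at h4
    have := hpos 2 (by decide)
    have := hpos 5 (by decide)
    have := hpos 6 (by decide)
    have := hpos 8 (by decide)
    have := hpos 9 (by decide)
    have := hpos 12 (by decide)
    have : q ^ 36 ≠ 0 := pow_ne_zero _ hq0
    exact absurd h4.symm (by positivity)
  have h5 := congrArg (padicValNat p) h4
  have e36 : padicValNat p (q ^ 36) = 0 := padicValNat.eq_zero_of_not_dvd fun h => hpq' (hpp.out.dvd_of_dvd_pow h)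
  have a2 := hpos 2 (by decide)
  have a5 := hpos 5 (by decide)
  have a6 := hpos 6 (by decide)
  have a8 := hpos 8 (by decide)
  have a9 := hpos 9 (by decide)
  have a12 := hpos 12 (by decide)
  rw [padicValNat.mul hn0 (by positivity), padicValNat.mul (by positivity) (by positivity),
    padicValNat.mul (pow_ne_zero _ hq0) (by positivity), e36,
    padicValNat.mul (by positivity) a12, padicValNat.mul (by positivity) a9, padicValNat.mul (by positivity) a8,
    padicValNat.mul (by positivity) a6, padicValNat.mul a2 a5, lte hp2 hq hpq (by decide), lte hp2 hq hpq (by decide),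
    lte hp2 hq hpq (by decide), lte hp2 hq hpq (by decide), lte hp2 hq hpq (by decide), lte hp2 hq hpq (by decide),
    padicValNat.pow, padicValNat.mul (by decide) (by decide), padicValNat.mul (by decide) (by decide),
    padicValNat.mul (by decide) (by decide), padicValNat.mul (by decide) (by decide),
    padicValNat.mul (by decide) (by decide)] at h5
  intro hd
  have h6 := one_le_padicValNat_of_dvd hn0 hd
  omega

end Num

/-! ### homocyclic groups -/

theorem card_torsion_le {p a m : ℕ} [hpp : Fact p.Prime] [NeZero m] {P : Type*} [Group P]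
    (e : P ≃* (Fin a → Multiplicative (ZMod m))) : Nat.card {x : P // x ^ p = 1} ≤ p ^ a := by
  classical
  have h1 : Nat.card {x : P // x ^ p = 1} = Nat.card (Fin a → {y : Multiplicative (ZMod m) // y ^ p = 1}) := by
    refine Nat.card_congr ⟨fun x i => ⟨e x.1 i, ?_⟩, fun f => ⟨e.symm fun i => (f i).1, ?_⟩, fun x => ?_, fun f => ?_⟩
    · have h2 := congrFun (congrArg e x.2) i
      rw [map_pow, map_one] at h2
      exact h2
    · rw [← map_pow]
      have h2 : (fun i => (f i).1) ^ p = 1 := by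
        funext i
        exact (f i).2
      rw [h2, map_one]
    · apply Subtype.ext
      exact e.symm_apply_apply x.1
    · funext i
      apply Subtype.ext
      exact congrFun (e.apply_symm_apply fun i => (f i).1) i
  have h2 : Nat.card {y : Multiplicative (ZMod m) // y ^ p = 1} ≤ p := by
    rw [Nat.card_eq_fintype_card, Fintype.card_subtype]
    exact IsCyclic.card_pow_eq_one_le hpp.out.pos
  rw [h1, Nat.card_fun, Nat.card_fin]
  exact Nat.pow_le_pow_left h2 a

/-! ### the row -/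

theorem laced_E6 : ∀ i j : Fin 6, i ≠ j → CoxeterMatrix.E₆ i j = 2 ∨ CoxeterMatrix.E₆ i j = 3 := by
  intro i j
  fin_cases i <;> fin_cases j <;> simp [CoxeterMatrix.E₆]

theorem rowS_e6 {p : ℕ} [hpp : Fact p.Prime] (hp2 : p ≠ 2) (F : Type) [Field F] [Fintype F] (hF : (p : F) ≠ 0)
    (hd : p ∣ Nat.card ↥(chevE6.group F)) : RowS p ↥(chevE6.group F) := by
  classical
  obtain ⟨r, hr⟩ := CharP.exists F
  have hrp : Fact r.Prime := ⟨CharP.char_is_prime F r⟩
  have hpr : p ≠ r := by
    rintro rfl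
    exact hF (CharP.cast_eq_zero F p)
  have hsimple : IsSimpleGroup ↥(chevE6.group F) ∧ ¬ IsMulCommutative ↥(chevE6.group F) :=
    S1054.result chevE6 (by simp)
  have hZ := center_eq_bot_of_simple hsimple
  obtain ⟨q, hq⟩ : ∃ q, Fintype.card F = q := ⟨_, rfl⟩
  have hq1 : 1 < q := hq ▸ Fintype.one_lt_card
  have hpq : ¬ p ∣ q := by
    intro h1
    obtain ⟨m, hrp', hm⟩ := FiniteField.card F r
    rw [← hq, hm] at h1
    exact hpr ((Nat.prime_dvd_prime_iff_eq hpp.out hrp').1 (hpp.out.dvd_of_dvd_pow h1))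
  by_cases h1 : p ∣ q - 1
  · refine rowS_chev e6T hp2 hZ r (by decide) laced_E6 (by rw [hq]; exact h1) fun n hn => ?_
    have h2 := S1093.result ⟨⟨6, CoxeterMatrix.E₆⟩, 51840⟩ (by simp)
    have h3 := S1063.result hq
    have h4 := S1035.result hq (chevE6, Nat.gcd 3 (q - 1)) (by simp)
    rw [show Nat.card CoxeterMatrix.E₆.Group = 51840 from h2] at hn
    exact not_dvd_idx hp2 hq1 h1 hn h3 h4
  by_cases h3 : q ^ 3 ≡ 1 [MOD p]
  · -- `p ≥ 7`
    have hp3 : p ≠ 3 := by
      rintro rfl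
      apply h1
      refine (Nat.modEq_iff_dvd' hq1.le).1 ?_
      have h4 : q ^ 3 ≡ q [MOD 3] := by
        have := Nat.ModEq.symm (Nat.mod_modEq q 3)
        have h5 : q % 3 = 0 ∨ q % 3 = 1 ∨ q % 3 = 2 := by omega
        have h6 : q ^ 3 ≡ (q % 3) ^ 3 [MOD 3] := this.pow 3
        refine h6.trans (Nat.ModEq.trans ?_ this.symm)
        rcases h5 with h5 | h5 | h5 <;> rw [h5] <;> decide
      exact (h3.symm.trans h4)
    have hp5 : p ≠ 5 := by
      rintro rfl
      apply h1
      refine (Nat.modEq_iff_dvd' hq1.le).1 ?_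
      have h4 : q ^ 3 ≡ (q % 5) ^ 3 [MOD 5] := (Nat.ModEq.symm (Nat.mod_modEq q 5)).pow 3
      have h5 : (q % 5) ^ 3 ≡ 1 [MOD 5] := h4.symm.trans h3
      have h6 : q % 5 < 5 := Nat.mod_lt _ (by decide)
      have h7 : q % 5 = 1 := by
        interval_cases hqq : q % 5
        · exact absurd h5 (by decide)
        · rfl
        · exact absurd h5 (by decide)
        · exact absurd h5 (by decide)
        · exact absurd h5 (by decide)
      have h8 := Nat.mod_modEq q 5
      rw [h7] at h8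
      exact h8
    have hp7 : 7 ≤ p := by
      by_contra h
      push Not at h
      have := hpp.out.two_le
      interval_cases p
      · exact hp2 rfl
      · exact hp3 rfl
      · exact absurd hpp.out (by decide)
      · exact hp5 rfl
      · exact absurd hpp.out (by decide)
    have hW : ¬ p ∣ [2, 5, 6, 8, 9, 12].prod := by
      intro h4
      have h5 : p ∣ 2 ^ 7 * 3 ^ 4 * 5 := by
        have : [2, 5, 6, 8, 9, 12].prod = 2 ^ 7 * 3 ^ 4 * 5 := by decide
        rwa [this] at h4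
      rcases (Nat.Prime.dvd_mul hpp.out).1 h5 with h6 | h6
      · rcases (Nat.Prime.dvd_mul hpp.out).1 h6 with h7 | h7
        · have := Nat.le_of_dvd (by decide) (hpp.out.dvd_of_dvd_pow h7)
          omega
        · have := Nat.le_of_dvd (by decide) (hpp.out.dvd_of_dvd_pow h7)
          omega
      · have := Nat.le_of_dvd (by decide) h6
        omega
    have hsyl := S2378.result hq (chevE6, [2, 5, 6, 8, 9, 12]) (by simp) p hpq hW hd
    have := hsimple.1
    refine RowS.of_abelian (fun hc => hsimple.2 ⟨⟨hc⟩⟩) hd (fun Q x hx y hy => ?_) fun Q => ?_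
    · obtain ⟨e⟩ := hsyl Q
      have h4 : (⟨x, hx⟩ : ↥(Q : Subgroup ↥(chevE6.group F))) * ⟨y, hy⟩ = ⟨y, hy⟩ * ⟨x, hx⟩ := by
        apply e.injective
        rw [map_mul, map_mul]
        exact mul_comm _ _
      exact congrArg Subtype.val h4
    · obtain ⟨e⟩ := hsyl Q
      have h5 : Nat.card {x : ↥(chevE6.group F) // x ∈ Q ∧ x ^ p = 1} =
          Nat.card {x : ↥(Q : Subgroup ↥(chevE6.group F)) // x ^ p = 1} :=
        Nat.card_congr ⟨fun x => ⟨⟨x, x.2.1⟩, Subtype.ext x.2.2⟩,
          fun x => ⟨x, x.1.2, congrArg Subtype.val x.2⟩, fun x => rfl, fun x => rfl⟩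
      rw [h5]
      have : NeZero (p ^ padicValNat p ((Polynomial.cyclotomic (orderOf (q : ZMod p)) ℤ).eval (q : ℤ)).natAbs) :=
        ⟨pow_ne_zero _ hpp.out.ne_zero⟩
      refine (card_torsion_le e).trans_lt (Nat.pow_lt_pow_right hpp.out.one_lt ?_)
      refine lt_of_le_of_lt (List.length_filter_le _ _) ?_
      exact lt_of_lt_of_le (by decide : 6 < 7) hp7
  · refine RowS.of_powConj hZ hd fun z _ hz => ⟨q ^ 3, h3, ?_⟩
    have h4 := isConj_pow (F := F) e6T inv_E6 three_ne_zero
      (center_eq_bot_of_simple (S1054.result chevE6 (by simp))) (r := r) hpp.out hpr hz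
    rwa [hq] at h4

end Cfsg.Agent.H142.GmnE6
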