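import Mathlib
import Cfsg.Agent.H142.GmnBlock
import Cfsg.Agent.H626.NormCrit

/-!
# S4935 from the table and S4936
-/

set_option autoImplicit false

open Cfsg Cfsg.Agent.Characters.Core Cfsg.Agent.Blocks.Basic Cfsg.Agent.H626

namespace Cfsg.Agent.H142.GmnEnd

open Cfsg.Agent.H142.GmnBlock

universe u

/-- S4935 from the table and S4936 -/
theorem s4935 {G : Type u} [Group G] [Fintype G] (p : ℕ) [Fact p.Prime] (M : Ideal AlgInt)
    (hM : IsPModular p M) (hT : GmnPC.Table.{u} p)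
    (h4936 : ∀ {X : Type u} [Group X] [Fintype X] (Q : Sylow p X) [Fintype ↥(Q : Subgroup X)],
      Subgroup.normalizer ((Q : Subgroup X) : Set X) = (Q : Subgroup X) → Corr p (Q : Subgroup X))
    (P : Sylow p G) [Fintype ↥((P : Subgroup G) ⊔ Subgroup.centralizer ((P : Subgroup G) : Set G))] :
    Subgroup.normalizer ((P : Subgroup G) : Set G) =
      (P : Subgroup G) ⊔ Subgroup.centralizer ((P : Subgroup G) : Set G) ↔
      ∀ χ : IrrCharacter G, χ ∈ principalBlock M G → ¬ p ∣ charDegree (χ : G → ℂ) →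
        classInner (indFun ((P : Subgroup G) ⊔ Subgroup.centralizer ((P : Subgroup G) : Set G))
          (fun _ => (1 : ℂ))) (χ : G → ℂ) ≠ 0 → (χ : G → ℂ) = fun _ => (1 : ℂ) := by
  classical
  apply H626.s4935_of hM P
  intro hdec χ hχB hχd hχ
  rw [← hdec] at hχ
  have : Fintype ↥(Subgroup.normalizer ((P : Subgroup G) : Set G)) := Fintype.ofFinite _
  obtain ⟨-, h2⟩ := final p M hM hT h4936 P hdec
  let μ : IrrCharacter ↥(Subgroup.normalizer ((P : Subgroup G) : Set G)) := ⟨fun _ => 1, isIrrCharacter_one⟩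
  let χ₀ : IrrCharacter G := ⟨fun _ => 1, isIrrCharacter_one⟩
  have hd0 : charDegree (fun _ : G => (1 : ℂ)) = 1 := by simp [charDegree]
  have hμd : charDegree (μ : ↥(Subgroup.normalizer ((P : Subgroup G) : Set G)) → ℂ) = 1 := by
    show charDegree (fun _ => (1 : ℂ)) = 1
    simp [charDegree]
  obtain ⟨ψ, -, hψ⟩ := h2 μ (by
    intro g
    rw [sub_self]
    have := Blocks.Local.isPrime_of_isPModular hM
    exact Blocks.Local.memLocalIdeal_zero) hμd
  rw [ip_eq] at hχ
  have e1 : χ = ψ := hψ χ ⟨hχB, hχd, hχ⟩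
  have e2 : χ₀ = ψ := by
    apply hψ
    refine ⟨?_, ?_, ?_⟩
    · intro g
      rw [sub_self]
      have := Blocks.Local.isPrime_of_isPModular hM
      exact Blocks.Local.memLocalIdeal_zero
    · show ¬ p ∣ charDegree (fun _ : G => (1 : ℂ))
      rw [hd0]
      exact (Fact.out : p.Prime).one_lt.not_ge ∘ Nat.le_of_dvd one_pos
    · show classInner (fun _ => (1 : ℂ)) (fun _ => (1 : ℂ)) ≠ 0
      rw [classInner_irr_self isIrrCharacter_one]
      exact one_ne_zero
  rw [e1, ← e2]

end Cfsg.Agent.H142.GmnEnd
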