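import Cfsg.Agent.H142.GmnEnd
import Cfsg.Agent.H142.GmnTable
import Cfsg.Agent.H663.GmnMain

/-!
# S4951, S4935 from the table of the Guralnick–Malle–Navarro theorem
-/

set_option autoImplicit false

namespace Cfsg.Agent.H142.GmnFinal

open Cfsg

universe u

theorem table_of_tab {p : ℕ} [Fact p.Prime] (hT : H663.GmnStep.Tab.{u} p) : GmnPC.Table.{u} p := by
  refine GmnTable.table_of fun S _ _ _ hS hd => ?_
  rcases hT S inferInstance (fun h => hS ⟨⟨h⟩⟩) hd with h | ⟨h3, F, iF, iN, hc, -, he⟩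
  · exact Or.inl h
  · exact Or.inr ⟨F, iF, iN, h3 ▸ hc, he⟩

theorem corr_of_tab {p : ℕ} [Fact p.Prime] (hT : H663.GmnStep.Tab.{u} p) {X : Type u} [Group X] [Fintype X]
    (Q : Sylow p X) [Fintype ↥(Q : Subgroup X)]
    (h : Subgroup.normalizer ((Q : Subgroup X) : Set X) = (Q : Subgroup X)) : GmnBlock.Corr p (Q : Subgroup X) :=
  H663.GmnStep.final hT Q h

end Cfsg.Agent.H142.GmnFinal
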