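import Cfsg.Agent.H142.GmnCoreFive
import Cfsg.Agent.ChevalleyStructure.WeylData

/-!
# Guralnick-Malle-Navarro rows: a torus of `E₆` and the prime `5`

* `eq_one_of_sq` : `w ∈ W`, `w ^ 5 = 1`, `(w - 1) ^ 2 = 0` modulo `5` : `w = 1`;
* `rowS_of_setup` : a finite group `S` with a `TorSetup` at `5`, the index of connection prime to `5`, `25 ∤ |W|`;
* `rowS_five` : the case of `E₆`.
-/

set_option autoImplicit false
set_option linter.unusedSectionVars false

namespace Cfsg.Agent.H142.GmnFive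

open CoxeterSystem Subgroup Cfsg Cfsg.Lie Cfsg.Lie.ChevalleyDatum
open Cfsg.Agent.ChevalleyStructure Cfsg.Agent.ChevalleyStructure.Elts Cfsg.Agent.ChevalleyStructure.CoxeterGeom
  Cfsg.Agent.ChevalleyStructure.CoxeterGeomTypes Cfsg.Agent.ChevalleyStructure.NPerm
open Cfsg.Agent.Tits.Roots Cfsg.Agent.Tits.Core Cfsg.Agent.Nodes Cfsg.Agent.Nodes.Reps Cfsg.Agent.Nodes.BNOf
  Cfsg.Agent.Nodes.RGDChev Cfsg.Agent.Nodes.Bruhat
open Cfsg.Agent.KFacts.RgdField Cfsg.Agent.KFacts.RgdChevCoord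
open Cfsg.Agent.BpExc Cfsg.Agent.BpExc.TorCent Cfsg.Agent.BpExc.TorChev Cfsg.Agent.BpExc.Tow
open Cfsg.Agent.BpExc.TowChev Cfsg.Agent.BpExc.NChev
open Cfsg.Agent.BpExc.RowsUntw Cfsg.Agent.BpExc.FamInst Cfsg.Agent.BpExc.FamExt
open Cfsg.Agent.H696.GmnToral Cfsg.Agent.H696.GmnTor Cfsg.Agent.H696.GmnInv Cfsg.Agent.H696.GmnTorSetup
open Cfsg.Agent.H712.Gmn
open Cfsg.Agent.H129.TorusChar (cX IsMC cX_root exists_cX isMC_cX cX_inj cX_mul cX_sr cX_one cX_pow)

universe u v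

section Five

variable {I W : Type*} [Fintype I] [DecidableEq I] [Group W] {M : CoxeterMatrix I}
  {cs : CoxeterSystem M W} {A : I → I → ℤ} {h : IsCartan M A}

theorem eq_one_of_sq [Finite W] {w : W} (hw5 : w ^ 5 = 1)
    (hw : ∀ (x : I → ℤ) i, (5 : ℤ) ∣ (rep cs h w (rep cs h w x) - (2 : ℤ) • rep cs h w x + x) i) : w = 1 := by
  by_contra hne
  obtain ⟨a, ha, hsum⟩ := Fix.exists_root_sum_eq_zero (cs := cs) (h := h) hne (by decide : 0 < 5) hw5
  have hex : ∀ x : I → ℤ, ∃ b : I → ℤ, rep cs h w (rep cs h w x) - (2 : ℤ) • rep cs h w x + x = (5 : ℤ) • b := by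
    intro x
    choose b hb using hw x
    exact ⟨b, funext hb⟩
  obtain ⟨b, hb⟩ := hex a
  obtain ⟨c, hc⟩ := hex b
  obtain ⟨n, hn⟩ : ∃ n, n = rep cs h w a - a := ⟨_, rfl⟩
  obtain ⟨m, hm⟩ : ∃ m, m = rep cs h w b - b := ⟨_, rfl⟩
  have e1 : rep cs h w a = a + n := by rw [hn]; abel
  have e2 : rep cs h w b = b + m := by rw [hm]; abel
  have e3 : rep cs h w n = n + (5 : ℤ) • b := by
    rw [← hb, hn, map_sub]
    module
  have e4 : rep cs h w m = m + (5 : ℤ) • c := by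
    rw [← hc, hm, map_sub]
    module
  have p2 : rep cs h (w ^ 2) a = a + (2 : ℤ) • n + (5 : ℤ) • b := by
    rw [pow_succ', pow_one, rep_mul_apply, e1, map_add, e1, e3]; module
  have p3 : rep cs h (w ^ 3) a = a + (3 : ℤ) • n + (15 : ℤ) • b + (5 : ℤ) • m := by
    rw [pow_succ', rep_mul_apply, p2, map_add, map_add, map_smul, map_smul, e1, e3, e2]; module
  have p4 : rep cs h (w ^ 4) a = a + (4 : ℤ) • n + (30 : ℤ) • b + (20 : ℤ) • m + (25 : ℤ) • c := by
    rw [pow_succ', rep_mul_apply, p3, map_add, map_add, map_add, map_smul, map_smul, map_smul, e1, e3, e2, e4]; module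
  rw [Finset.sum_range_succ, Finset.sum_range_succ, Finset.sum_range_succ, Finset.sum_range_succ,
    Finset.sum_range_one, pow_zero, map_one, Module.End.one_apply, pow_one, e1, p2, p3, p4] at hsum
  have h5 : (5 : ℤ) • (a + (2 : ℤ) • n + (10 : ℤ) • b + (5 : ℤ) • m + (5 : ℤ) • c) = 0 := by
    rw [← hsum]; module
  have h6 : a + (2 : ℤ) • n + (10 : ℤ) • b + (5 : ℤ) • m + (5 : ℤ) • c = 0 := by
    rcases smul_eq_zero.1 h5 with h7 | h7
    · exact absurd h7 (by decide)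
    · exact h7
  have h7 := congrArg (rep cs h w) h6
  rw [map_add, map_add, map_add, map_add, map_smul, map_smul, map_smul, map_smul, map_zero, e1, e2, e3, e4] at h7
  have h8 : n + (10 : ℤ) • b + (10 : ℤ) • m + (25 : ℤ) • c + (5 : ℤ) • (rep cs h w c - c) = 0 := by
    have h9 : a + n + (2 : ℤ) • (n + (5 : ℤ) • b) + (10 : ℤ) • (b + m) + (5 : ℤ) • (m + (5 : ℤ) • c) +
        (5 : ℤ) • rep cs h w c - (a + (2 : ℤ) • n + (10 : ℤ) • b + (5 : ℤ) • m + (5 : ℤ) • c) = 0 := by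
      rw [h7, h6, sub_zero]
    rw [← h9]; module
  have h9 : a = (5 : ℤ) • (((2 : ℤ) • b + (3 : ℤ) • m + (9 : ℤ) • c + (2 : ℤ) • (rep cs h w c - c)) : I → ℤ) := by
    have h10 : a + (2 : ℤ) • n + (10 : ℤ) • b + (5 : ℤ) • m + (5 : ℤ) • c - (2 : ℤ) • (n + (10 : ℤ) • b +
      (10 : ℤ) • m + (25 : ℤ) • c + (5 : ℤ) • (rep cs h w c - c)) = 0 := by rw [h6, h8, smul_zero, sub_zero]
    rw [← sub_eq_zero, ← h10]; module
  obtain ⟨i, hi⟩ := not_dvd_root ha (p := (5 : ℤ)) (fun hu => by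
    have := Int.isUnit_iff.1 hu
    omega)
  apply hi
  rw [h9]
  exact ⟨_, rfl⟩

end Five

/-! ### the torus -/

section Tor

variable {D : ChevalleyDatum} {l : ℕ} {M : CoxeterMatrix (Fin l)} (hp : IsType D l M) {k : Type u} [Field k]
  [IsAlgClosed k] (hk : LocFin k) (r : ℕ) [Fact r.Prime] [CharP k r] {W : Type v} [Group W] (cs : CoxeterSystem M W)

/-- Elements of order dividing `p` of the torus, `p` prime to the index of connection. -/
theorem tors_mem {d : ℕ} {B : Fin l → Fin l → ℤ} (hB : InvC D l d B) {p : ℕ} (hpd : Nat.Coprime p d)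
    {P : Subgroup ↥(D.group k)} (hP : ∀ (j : Fin l) (c : k), c ^ p = 1 → hc hp j c ∈ P)
    {t : ↥(D.group k)} (ht : t ∈ TT D k) (htp : t ^ p = 1) : t ∈ P := by
  classical
  refine mem_of_pow htp hpd ?_
  have hcX := isMC_cX hp ht
  let b : Fin l → k := fun m => cX hp t (sr m)
  have hb0 : ∀ m, b m ≠ 0 := fun m => hcX.ne_zero _
  have hbp : ∀ m, b m ^ p = 1 := fun m => by
    show cX hp t (sr m) ^ p = 1
    rw [← cX_pow hp ht, htp, cX_one]
  let a : Fin l → k := fun j => ∏ m, b m ^ B m j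
  have ha0 : ∀ j, a j ≠ 0 := fun j => Finset.prod_ne_zero_iff.2 fun m _ => zpow_ne_zero _ (hb0 m)
  have hap : ∀ j, a j ^ p = 1 := fun j => by
    show (∏ m, b m ^ B m j) ^ p = 1
    rw [← Finset.prod_pow]
    refine Finset.prod_eq_one fun m _ => ?_
    rw [← zpow_natCast, ← zpow_mul, mul_comm, zpow_mul, zpow_natCast, hbp, one_zpow]
  -- the product of the coroot elements
  have hex : ∀ S : Finset (Fin l), ∃ g ∈ P, g ∈ TT D k ∧ ∀ x : Fin l → ℤ,
      cX hp g x = ∏ j ∈ S, a j ^ pairing (cartanOf D l) j x := by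
    intro S
    induction S using Finset.induction_on with
    | empty => exact ⟨1, one_mem _, one_mem _, fun x => by rw [cX_one, Finset.prod_empty]⟩
    | insert j S hj ih =>
      obtain ⟨g, hg, hgT, e⟩ := ih
      refine ⟨hc hp j (a j) * g, mul_mem (hP j _ (hap j)) hg, mul_mem (hc_mem hp j (ha0 j)) hgT, fun x => ?_⟩
      rw [cX_mul hp (hc_mem hp j (ha0 j)) hgT, e, Finset.prod_insert hj]
      congr 1
      have h1 : IsMC fun x : Fin l → ℤ => a j ^ pairing (cartanOf D l) j x := by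
        refine ⟨?_, fun x y => ?_⟩
        · have : pairing (cartanOf D l) j 0 = 0 := by unfold pairing; simp
          rw [this, zpow_zero]
        · rw [pairing_add, zpow_add₀ (ha0 j)]
      refine (isMC_cX hp (hc_mem hp j (ha0 j))).ext h1 (fun i => ?_) x
      rw [cX_sr, ← vec_simple hp i, ch_hc hp j (ha0 j) (simple_lt hp.inList (lt_rank hp i)),
        pairing_vec hp j (simple_lt hp.inList (lt_rank hp i))]
  obtain ⟨g, hg, hgT, e⟩ := hex Finset.univ
  have h1 : g = t ^ d := by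
    refine cX_inj hp hgT (pow_mem ht d) fun i => ?_
    rw [e, cX_pow hp ht]
    have h2 : ∀ j, a j ^ pairing (cartanOf D l) j (sr i) = ∏ m, b m ^ (B m j * pairing (cartanOf D l) j (sr i)) := by
      intro j
      show (∏ m, b m ^ B m j) ^ _ = _
      rw [← Finset.prod_zpow]
      exact Finset.prod_congr rfl fun m _ => (zpow_mul _ _ _).symm
    have h3 : ∀ m, ∏ j, b m ^ (B m j * pairing (cartanOf D l) j (sr i)) = if m = i then b m ^ d else 1 := by
      intro m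
      have h4 : ∀ S : Finset (Fin l), ∏ j ∈ S, b m ^ (B m j * pairing (cartanOf D l) j (sr i)) =
          b m ^ (∑ j ∈ S, B m j * pairing (cartanOf D l) j (sr i)) := by
        intro S
        induction S using Finset.induction_on with
        | empty => rw [Finset.prod_empty, Finset.sum_empty, zpow_zero]
        | insert j S hj ih => rw [Finset.prod_insert hj, Finset.sum_insert hj, zpow_add₀ (hb0 m), ih]
      rw [h4]
      have h5 : ∑ j, B m j * pairing (cartanOf D l) j (sr i) = if m = i then (d : ℤ) else 0 := by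
        rw [← hB m i]
        refine Finset.sum_congr rfl fun j _ => ?_
        rw [sr, pairing_single, mul_one]
      rw [h5]
      split_ifs
      · rw [zpow_natCast]
      · rw [zpow_zero]
    rw [Finset.prod_congr rfl fun j _ => h2 j, Finset.prod_comm, Finset.prod_congr rfl fun m _ => h3 m,
      Finset.prod_ite_eq' Finset.univ i]
    rw [if_pos (Finset.mem_univ i)]
  rw [← h1]
  exact hg

include hk r in
/-- representatives and characters -/
theorem cX_rp {w : W} {g : ↥(D.group k)} (hg : Rp cs (tow hp cs hk r (k := k)).nsys w g) {t : ↥(D.group k)}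
    (ht : t ∈ TT D k) : g * t * g⁻¹ ∈ TT D k ∧ ∀ x, cX hp (g * t * g⁻¹) (rep cs hp.isCartan w x) = cX hp t x := by
  have hTL : TL (Tj hp (k := k)) = TT D k := TL_eq hp hk
  have hXL : XL (Xj hp (k := k)) = XX D l k := XL_eq hp hk
  have C : Coords cs hp.isCartan (TL (Tj hp (k := k))) (nc hp k) (XL (Xj hp (k := k))) (xc hp) (ch hp) := by
    rw [hTL, hXL]; exact coordsL hp cs hk r
  have h1 : g * t * g⁻¹ ∈ TT D k := by
    have h2 := (Subgroup.mem_normalizer_iff.1 hg.mem_normalizer t).1 (by rw [hTL]; exact ht)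
    rwa [hTL] at h2
  refine ⟨h1, fun x => ?_⟩
  refine ((isMC_cX hp h1).comp (rep cs hp.isCartan w).toAddMonoidHom).ext (isMC_cX hp ht) (fun i => ?_) x
  have h2 := C.chi_rp (tow hp cs hk r (k := k)).nsys hg (isRoot_sr cs hp.isCartan i) (t := t) (by rw [hTL]; exact ht)
  show cX hp (g * t * g⁻¹) (rep cs hp.isCartan w (sr i)) = cX hp t (sr i)
  rw [cX_root hp cs h1 ((isRoot_sr cs hp.isCartan i).act w), h2, cX_sr]

/-- the basic torsion elements -/
theorem exists_basic {d : ℕ} {B : Fin l → Fin l → ℤ} (hB : InvC D l d B) (hd : d ≠ 0) {p : ℕ} {ζ : k}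
    (hp0 : p ≠ 0) (hζ : IsPrimitiveRoot ζ p) :
    ∃ t : Fin l → ↥(D.group k), ∀ i, t i ∈ TT D k ∧ t i ^ p = 1 ∧ ∀ x, cX hp (t i) x = ζ ^ x i := by
  have hζ0 : ζ ≠ 0 := hζ.ne_zero hp0
  obtain ⟨t, ht⟩ := exists_tors hp M.toCoxeterSystem hB hd hζ0
  have h1 : ∀ i x, cX hp (t i) x = ζ ^ x i := by
    intro i x
    have h2 : IsMC fun x : Fin l → ℤ => ζ ^ x i :=
      ⟨by rw [Pi.zero_apply, zpow_zero], fun x y => by rw [Pi.add_apply, zpow_add₀ hζ0]⟩
    refine (isMC_cX hp (ht i).1).ext h2 (fun j => ?_) x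
    rw [cX_sr]
    exact (ht i).2 _ (isRoot_sr M.toCoxeterSystem hp.isCartan j)
  refine ⟨t, fun i => ⟨(ht i).1, ?_, h1 i⟩⟩
  refine cX_inj hp (pow_mem (ht i).1 p) (one_mem _) fun j => ?_
  rw [cX_pow hp (ht i).1, h1, cX_one, ← zpow_natCast, ← zpow_mul, mul_comm, zpow_mul, zpow_natCast, hζ.pow_eq_one,
    one_zpow]

include hk r in
/-- the element of `W` is unique -/
theorem rp_unique [Finite W] {d : ℕ} {B : Fin l → Fin l → ℤ} (hB : InvC D l d B) (hd : d ≠ 0) {p : ℕ}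
    (hpp : p.Prime) (hp2 : p ≠ 2) {ζ : k} (hζ : IsPrimitiveRoot ζ p) {w w' : W} {g : ↥(D.group k)}
    (h1 : Rp cs (tow hp cs hk r (k := k)).nsys w g) (h2 : Rp cs (tow hp cs hk r (k := k)).nsys w' g) : w = w' := by
  have h3 := h1.inv.mul h2
  rw [inv_mul_cancel] at h3
  obtain ⟨t, ht⟩ := exists_basic hp hB hd hpp.pos.ne' hζ
  rw [← inv_mul_eq_one]
  refine minkowski (cs := cs) (h := hp.isCartan) hpp hp2 fun a ha i => ?_
  have h4 := (cX_rp hp hk r cs h3 (ht i).1).2 a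
  have h5 : (1 : ↥(D.group k)) * t i * 1⁻¹ = t i := by group
  rw [h5, (ht i).2.2, (ht i).2.2] at h4
  refine (hζ.zpow_eq_one_iff_dvd _).1 ?_
  rw [Pi.sub_apply, zpow_sub₀ (hζ.ne_zero hpp.pos.ne'), h4, div_self (zpow_ne_zero _ (hζ.ne_zero hpp.pos.ne'))]

end Tor

/-! ### the finite group -/

section Fin

variable {D : ChevalleyDatum} {l : ℕ} {M : CoxeterMatrix (Fin l)} (hp : IsType D l M) {k : Type u} [Field k]
  [IsAlgClosed k] (hk : LocFin k) (r : ℕ) [Fact r.Prime] [CharP k r] {W : Type v} [Group W] (cs : CoxeterSystem M W)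
  {S : Type*} [Group S] {j : S →* ↥(D.group k)} (hj : Function.Injective j)

include hp hj in
/-- the elements of order dividing `p` in the torus -/
def EE (p : ℕ) : Subgroup S where
  carrier := {s | j s ∈ TT D k ∧ s ^ p = 1}
  one_mem' := ⟨by rw [map_one]; exact one_mem _, one_pow p⟩
  mul_mem' := by
    rintro a b ⟨ha, ha'⟩ ⟨hb, hb'⟩
    refine ⟨by rw [map_mul]; exact mul_mem ha hb, ?_⟩
    have h1 : Commute a b := hj (by rw [map_mul, map_mul]; exact TT_comm hp _ ha _ hb)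
    rw [h1.mul_pow, ha', hb', one_mul]
  inv_mem' := by
    rintro a ⟨ha, ha'⟩
    exact ⟨by rw [map_inv]; exact inv_mem ha, by rw [inv_pow, ha', inv_one]⟩

theorem mem_EE {p : ℕ} {s : S} : s ∈ EE hp hj p ↔ j s ∈ TT D k ∧ s ^ p = 1 := Iff.rfl

theorem EE_comm {p : ℕ} : ∀ x ∈ EE hp hj p, ∀ y ∈ EE hp hj p, x * y = y * x := by
  rintro x ⟨hx, -⟩ y ⟨hy, -⟩
  exact hj (by rw [map_mul, map_mul]; exact TT_comm hp _ hx _ hy)

omit [IsAlgClosed k] in
theorem cX_inv' {t : ↥(D.group k)} (ht : t ∈ TT D k) (x : Fin l → ℤ) : cX hp t⁻¹ x = (cX hp t x)⁻¹ := by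
  have h1 := cX_mul hp (inv_mem ht) ht x
  rw [inv_mul_cancel, cX_one] at h1
  exact eq_inv_of_mul_eq_one_left h1.symm

include hk r cs in
/-- **Uniqueness of `E`.** -/
theorem EE_unique [Finite S] [Finite W] {d : ℕ} {B : Fin l → Fin l → ℤ} (hB : InvC D l d B) (hd5 : Nat.Coprime 5 d)
    {ζ : k} (hζ : IsPrimitiveRoot ζ 5) (hW : ¬ 5 ^ 2 ∣ Nat.card W)
    (htors : ∀ (i : Fin l) (c : k), c ^ 5 = 1 → hc hp i c ∈ j.range)
    {E' : Subgroup S} (hE'c : ∀ x ∈ E', ∀ y ∈ E', x * y = y * x) (hE'p : ∀ x ∈ E', x ^ 5 = 1)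
    (hcard : Nat.card E' = Nat.card (EE hp hj 5))
    (hnorm : ∀ x ∈ E', ∀ y ∈ EE hp hj 5, x * y * x⁻¹ ∈ EE hp hj 5) : E' = EE hp hj 5 := by
  classical
  have h5p : Nat.Prime 5 := by norm_num
  have hf5 : Fact (Nat.Prime 5) := ⟨h5p⟩
  have hd : d ≠ 0 := by
    rintro rfl
    exact absurd hd5 (by decide)
  have hζ0 : ζ ≠ 0 := hζ.ne_zero (by decide)
  have hTL : TL (Tj hp (k := k)) = TT D k := TL_eq hp hk
  have hXL : XL (Xj hp (k := k)) = XX D l k := XL_eq hp hk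
  set E := EE hp hj 5 with hE
  obtain ⟨t, ht⟩ := exists_basic hp hB hd (by decide : 5 ≠ 0) hζ
  have hex : ∀ i, ∃ e ∈ E, j e = t i := by
    intro i
    obtain ⟨e, he⟩ := tors_mem hp hB hd5 (P := j.range) htors (ht i).1 (ht i).2.1
    refine ⟨e, ⟨by rw [he]; exact (ht i).1, hj ?_⟩, he⟩
    rw [map_pow, he, (ht i).2.1, map_one]
  choose e heE he using hex
  -- `E'` normalises the torus
  have hnt : ∀ x ∈ E', ∀ s ∈ TT D k, j x * s * (j x)⁻¹ ∈ TT D k := by
    intro x hx s hs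
    refine cent_tors hp hk r cs h5p (by decide) hζ (fun i => (ht i).1) (fun i a ha => by
      rw [← cX_root hp cs (ht i).1 ha]; exact (ht i).2.2 a) fun i => ?_
    have h1 := hnorm x⁻¹ (inv_mem hx) (e i) (heE i)
    rw [inv_inv] at h1
    have h2 : j (x⁻¹ * e i * x) ∈ TT D k := h1.1
    rw [map_mul, map_mul, map_inv, he] at h2
    have h3 := TT_comm hp _ hs _ h2
    calc j x * s * (j x)⁻¹ * t i = j x * (s * ((j x)⁻¹ * t i * j x)) * (j x)⁻¹ := by group
      _ = j x * ((j x)⁻¹ * t i * j x * s) * (j x)⁻¹ := by rw [h3]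
      _ = _ := by group
  have hrp : ∀ x : ↥E', ∃ w : W, Rp cs (tow hp cs hk r (k := k)).nsys w (j x) := by
    intro x
    refine rp_of_normalizer (tow hp cs hk r (k := k)) (GG_eq_top hp cs hk) (fun a ha => by
      rw [hTL, hXL]; exact sep hp cs hk r ha) fun s => ?_
    rw [hTL]
    refine ⟨fun h1 => ?_, hnt x x.2 s⟩
    have h2 := hnt (x : S)⁻¹ (inv_mem x.2) _ h1
    rw [map_inv] at h2
    have h3 : (j x)⁻¹ * (j x * s * (j x)⁻¹) * (j x)⁻¹⁻¹ = s := by group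
    rwa [h3] at h2
  choose θ hθ using hrp
  have huq : ∀ {w w' : W} {g : ↥(D.group k)}, Rp cs (tow hp cs hk r (k := k)).nsys w g →
      Rp cs (tow hp cs hk r (k := k)).nsys w' g → w = w' := fun h1 h2 =>
    rp_unique hp hk r cs hB hd h5p (by decide) hζ h1 h2
  let Θ : ↥E' →* W :=
    { toFun := θ
      map_one' := huq (hθ 1) (by
        have : j ((1 : ↥E') : S) = 1 := map_one j
        rw [this]
        exact rp_one)
      map_mul' := fun x y => huq (hθ (x * y)) (by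
        have : j ((x * y : ↥E') : S) = j x * j y := map_mul j _ _
        rw [this]
        exact (hθ x).mul (hθ y)) }
  have hΘ : ∀ x : ↥E', Θ x = 1 → (x : S) ∈ E := by
    intro x hx
    have h1 := hθ x
    rw [show θ x = 1 from hx] at h1
    have h2 := h1.mem_of_one
    rw [hTL] at h2
    exact ⟨h2, hE'p x x.2⟩
  by_contra hne
  have hnle : ¬ E' ≤ E := fun hle => hne (Subgroup.eq_of_le_of_card_ge hle hcard.ge)
  obtain ⟨x, hx, hxE⟩ := SetLike.not_le_iff_exists.1 hnle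
  -- the order of the intersection
  have hcap : Nat.card E ≤ Nat.card ↥(E ⊓ E' : Subgroup S) * 5 := by
    have h1 : Nat.card Θ.ker ≤ Nat.card ↥(E ⊓ E' : Subgroup S) := by
      refine Nat.card_le_card_of_injective (fun y : Θ.ker => (⟨((y : ↥E') : S), hΘ _ y.2, (y : ↥E').2⟩ :
        ↥(E ⊓ E' : Subgroup S))) fun a b hab => ?_
      have h := congrArg (fun z : ↥(E ⊓ E' : Subgroup S) => (z : S)) hab
      exact Subtype.ext (Subtype.ext h)
    have h2 : Nat.card Θ.range ≤ 5 := by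
      have h3 : IsPGroup 5 Θ.range := by
        rintro ⟨_, y, rfl⟩
        refine ⟨1, Subtype.ext ?_⟩
        show (Θ y) ^ 5 ^ 1 = 1
        rw [pow_one, ← map_pow]
        have : y ^ 5 = 1 := Subtype.ext (hE'p y y.2)
        rw [this, map_one]
      obtain ⟨n, hn⟩ := IsPGroup.iff_card.1 h3
      have h4 : Nat.card Θ.range ∣ Nat.card W := Subgroup.card_subgroup_dvd_card _
      rw [hn] at h4 ⊢
      have h5 : n < 2 := by
        by_contra h6
        exact hW ((pow_dvd_pow 5 (not_lt.1 h6)).trans h4)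
      calc 5 ^ n ≤ 5 ^ 1 := Nat.pow_le_pow_right (by decide) (by omega)
        _ = 5 := pow_one 5
    have h3 : Nat.card E' = Nat.card Θ.ker * Nat.card Θ.range := by
      rw [← Subgroup.index_ker, Subgroup.card_mul_index]
    rw [← hcard, h3]
    exact Nat.mul_le_mul h1 h2
  -- the commutator map
  have hcomm := EE_comm hp hj (p := 5)
  have hφmem : ∀ y : ↥E, x * y * x⁻¹ * (y : S)⁻¹ ∈ E := fun y => mul_mem (hnorm x hx y y.2) (inv_mem y.2)
  let φ : ↥E →* ↥E :=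
    { toFun := fun y => ⟨x * y * x⁻¹ * (y : S)⁻¹, hφmem y⟩
      map_one' := Subtype.ext (by show x * 1 * x⁻¹ * 1⁻¹ = (1 : S); group)
      map_mul' := fun y z => Subtype.ext (by
        show x * (y * z) * x⁻¹ * ((y : S) * z)⁻¹ = x * y * x⁻¹ * (y : S)⁻¹ * (x * z * x⁻¹ * (z : S)⁻¹)
        have h1 := hcomm _ (inv_mem y.2) _ (hφmem z)
        calc x * (y * z) * x⁻¹ * ((y : S) * z)⁻¹ = x * y * x⁻¹ * ((x * z * x⁻¹ * (z : S)⁻¹) * (y : S)⁻¹) := by group
          _ = _ := by rw [← h1]; group) }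
  have hφ : ∀ y : ↥E, ((φ y : ↥E) : S) = x * y * x⁻¹ * (y : S)⁻¹ := fun _ => rfl
  have hrange : Nat.card φ.range ≤ 5 := by
    have h1 : Nat.card ↥(E ⊓ E' : Subgroup S) ≤ Nat.card φ.ker := by
      refine Nat.card_le_card_of_injective (fun y : ↥(E ⊓ E' : Subgroup S) => (⟨⟨(y : S), y.2.1⟩, ?_⟩ : φ.ker))
        fun a b hab => ?_
      · rw [MonoidHom.mem_ker]
        apply Subtype.ext
        rw [hφ]
        show x * (y : S) * x⁻¹ * (y : S)⁻¹ = 1
        rw [hE'c x hx y y.2.2]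
        group
      · exact Subtype.ext (congrArg (fun z : φ.ker => ((z : ↥E) : S)) hab)
    have h2 : Nat.card E = Nat.card φ.ker * Nat.card φ.range := by
      rw [← Subgroup.index_ker, Subgroup.card_mul_index]
    have h3 : Nat.card φ.ker * Nat.card φ.range ≤ Nat.card φ.ker * 5 := by
      rw [← h2]
      exact hcap.trans (Nat.mul_le_mul_right 5 h1)
    exact Nat.le_of_mul_le_mul_left h3 Nat.card_pos
  have hφφ : ∀ y : ↥E, φ (φ y) = 1 := by
    intro y
    obtain ⟨z, hz⟩ : ∃ z, z = φ y := ⟨_, rfl⟩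
    rw [← hz]
    by_cases hz1 : z = 1
    · rw [hz1, map_one]
    have hord : orderOf z = 5 := orderOf_eq_prime (Subtype.ext z.2.2) hz1
    have hle : Subgroup.zpowers z ≤ φ.range := by
      rw [Subgroup.zpowers_le]
      exact ⟨y, hz.symm⟩
    have heq : Subgroup.zpowers z = φ.range := by
      refine Subgroup.eq_of_le_of_card_ge hle ?_
      rw [Nat.card_zpowers, hord]
      exact hrange
    have h1 : φ z ∈ Subgroup.zpowers z := by
      rw [heq]
      exact ⟨z, rfl⟩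
    obtain ⟨c, hc⟩ := Subgroup.mem_zpowers_iff.1 h1
    have h2 : (x⁻¹)⁻¹ * (z : S) * x⁻¹ = (z : S) ^ (c + 1) := by
      have h3 := congrArg Subtype.val hc
      rw [hφ] at h3
      have h4 : (z : S) ^ c = x * z * x⁻¹ * (z : S)⁻¹ := h3
      rw [zpow_add_one, h4]
      group
    have h3 := H696.GmnUntw.conj_iter h2 5
    have hx5 := hE'p x hx
    rw [inv_pow, hx5, inv_one, inv_one, one_mul, mul_one] at h3
    have h4 : (z : S) ^ ((c + 1) ^ 5 - 1) = 1 := by rw [zpow_sub_one, ← h3, mul_inv_cancel]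
    have h5 : orderOf (z : S) = 5 := by rw [Subgroup.orderOf_coe, hord]
    rw [← orderOf_dvd_iff_zpow_eq_one, h5] at h4
    have h6 : ((5 : ℕ) : ℤ) ∣ c := by
      rw [← ZMod.intCast_zmod_eq_zero_iff_dvd] at h4 ⊢
      push_cast at h4
      rw [ZMod.pow_card] at h4
      linear_combination h4
    rw [← hc]
    apply Subtype.ext
    show (z : S) ^ c = 1
    rw [← orderOf_dvd_iff_zpow_eq_one, h5]
    exact h6
  -- the element of `W`
  have hw := hθ ⟨x, hx⟩
  have hw5 : (θ ⟨x, hx⟩) ^ 5 = 1 := by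
    have h1 : Θ (⟨x, hx⟩ ^ 5) = 1 := by
      have : (⟨x, hx⟩ : ↥E') ^ 5 = 1 := Subtype.ext (hE'p x hx)
      rw [this, map_one]
    rw [map_pow] at h1
    exact h1
  have hw1 : θ ⟨x, hx⟩ = 1 := by
    refine eq_one_of_sq (cs := cs) (h := hp.isCartan) hw5 fun z i => ?_
    set w := θ ⟨x, hx⟩
    set g := j x with hg
    have hti := (ht i).1
    obtain ⟨hg1, hg2⟩ := cX_rp hp hk r cs hw hti
    -- `τ' = g t g⁻¹ t⁻¹`
    have hτ : j (φ ⟨e i, heE i⟩ : ↥E) = g * t i * g⁻¹ * (t i)⁻¹ := by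
      rw [hφ]
      show j (x * e i * x⁻¹ * (e i)⁻¹) = _
      rw [map_mul, map_mul, map_mul, map_inv, map_inv, he]
    have hτT : g * t i * g⁻¹ * (t i)⁻¹ ∈ TT D k := mul_mem hg1 (inv_mem hti)
    have hτf : g * (g * t i * g⁻¹ * (t i)⁻¹) * g⁻¹ = g * t i * g⁻¹ * (t i)⁻¹ := by
      have h1 := congrArg (fun y : ↥E => j (y : S)) (hφφ ⟨e i, heE i⟩)
      simp only [hφ (φ _), map_mul, map_inv] at h1
      rw [hτ] at h1
      have h2 : j ((1 : ↥E) : S) = 1 := map_one j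
      rw [h2] at h1
      exact mul_inv_eq_one.1 h1
    obtain ⟨-, hg4⟩ := cX_rp hp hk r cs hw hτT
    rw [hτf] at hg4
    have h5 : ∀ u, cX hp (g * t i * g⁻¹ * (t i)⁻¹) (rep cs hp.isCartan w u) =
        ζ ^ (u i) * (ζ ^ ((rep cs hp.isCartan w u) i))⁻¹ := by
      intro u
      rw [cX_mul hp hg1 (inv_mem hti), hg2, cX_inv' hp hti, (ht i).2.2, (ht i).2.2]
    have h6 := h5 (rep cs hp.isCartan w z)
    rw [hg4, h5] at h6
    refine (hζ.zpow_eq_one_iff_dvd _).1 ?_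
    simp only [Pi.add_apply, Pi.sub_apply, Pi.smul_apply, smul_eq_mul]
    rw [zpow_add₀ hζ0, zpow_sub₀ hζ0, mul_comm (2 : ℤ), zpow_mul]
    have n1 : ζ ^ ((rep cs hp.isCartan w z) i) ≠ 0 := zpow_ne_zero _ hζ0
    have n2 : ζ ^ ((rep cs hp.isCartan w (rep cs hp.isCartan w z)) i) ≠ 0 := zpow_ne_zero _ hζ0
    have e2 : ∀ y : k, y ^ (2 : ℤ) = y * y := fun y => by rw [zpow_ofNat, sq]
    rw [e2]
    field_simp at h6 ⊢
    linear_combination h6
  exact hxE (hΘ ⟨x, hx⟩ hw1)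

/-- the character of a coroot element -/
theorem cX_hc (i : Fin l) {c : k} (hc0 : c ≠ 0) (x : Fin l → ℤ) :
    cX hp (hc hp i c) x = c ^ pairing (cartanOf D l) i x := by
  have h1 : IsMC fun x : Fin l → ℤ => c ^ pairing (cartanOf D l) i x := by
    refine ⟨?_, fun x y => ?_⟩
    · have : pairing (cartanOf D l) i 0 = 0 := by unfold pairing; simp
      rw [this, zpow_zero]
    · rw [pairing_add, zpow_add₀ hc0]
  refine (isMC_cX hp (hc_mem hp i hc0)).ext h1 (fun m => ?_) x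
  rw [cX_sr, ← vec_simple hp m, ch_hc hp i hc0 (simple_lt hp.inList (lt_rank hp m)),
    pairing_vec hp i (simple_lt hp.inList (lt_rank hp m))]

include hk r cs in
/-- **The row.** A finite group with a torus setup at the prime `5`. -/
theorem rowS_of_setup [Finite S] [Finite W] {d : ℕ} {B : Fin l → Fin l → ℤ} (hB : InvC D l d B)
    (hd5 : Nat.Coprime 5 d) {ζ : k} (hζ : IsPrimitiveRoot ζ 5) (hW : ¬ 5 ^ 2 ∣ Nat.card W) (hZ : center S = ⊥)
    (i0 : Fin l) {ι : S →* ↥(D.group k)} {v : ↥(D.group k)} (H : TorSetup hp hk r cs 5 ι v) : RowS 5 S := by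
  have hf5 : Fact (Nat.Prime 5) := ⟨by norm_num⟩
  have hζ0 : ζ ≠ 0 := hζ.ne_zero (by decide)
  let j : S →* ↥(D.group k) := (MulAut.conj v⁻¹).toMonoidHom.comp ι
  have hjv : ∀ s, j s = v⁻¹ * ι s * v := fun s => by
    show v⁻¹ * ι s * v⁻¹⁻¹ = _
    rw [inv_inv]
  have hj : Function.Injective j := (MulAut.conj v⁻¹).injective.comp H.inj
  have htors : ∀ (i : Fin l) (c : k), c ^ 5 = 1 → hc hp i c ∈ j.range := by
    intro i c hc5
    obtain ⟨s, hs⟩ := H.tors i c hc5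
    refine ⟨s, ?_⟩
    rw [hjv, hs]
    group
  obtain ⟨s, hs⟩ := H.lift (cs.simple i0)
  rw [← hjv] at hs
  have hEc := EE_comm hp hj (p := 5)
  have hEp : ∀ x ∈ EE hp hj 5, x ^ 5 = 1 := fun x hx => hx.2
  -- logarithms
  have hlog : ∀ x : ↥(EE hp hj 5), ∃ n : ℕ, ζ ^ n = cX hp (j x) (sr i0) := by
    intro x
    have h1 : (cX hp (j x) (sr i0)) ^ 5 = 1 := by
      rw [← cX_pow hp x.2.1, ← map_pow, x.2.2, map_one, cX_one]
    obtain ⟨n, -, hn⟩ := hζ.eq_pow_of_pow_eq_one h1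
    exact ⟨n, hn⟩
  choose lg hlg using hlog
  have hpe : ∀ n m : ℕ, ζ ^ n = ζ ^ m ↔ ((n : ZMod 5) = (m : ZMod 5)) := by
    intro n m
    rw [← zpow_natCast, ← zpow_natCast, ← div_eq_one_iff_eq (zpow_ne_zero _ hζ0), ← zpow_sub₀ hζ0,
      hζ.zpow_eq_one_iff_dvd, ← ZMod.intCast_zmod_eq_zero_iff_dvd]
    push_cast
    exact sub_eq_zero
  have hval : ∀ x : ↥(EE hp hj 5), ζ ^ (((lg x : ℕ) : ZMod 5)).val = cX hp (j x) (sr i0) := by
    intro x
    rw [← hlg x, hpe, ZMod.natCast_val, ZMod.cast_id]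
  -- the coroot element
  obtain ⟨u0, hu0⟩ := htors i0 ζ hζ.pow_eq_one
  have hu0E : u0 ∈ EE hp hj 5 := by
    refine ⟨by rw [hu0]; exact hc_mem hp i0 hζ0, hj ?_⟩
    rw [map_pow, hu0, map_one]
    refine cX_inj hp (pow_mem (hc_mem hp i0 hζ0) 5) (one_mem _) fun i => ?_
    rw [cX_pow hp (hc_mem hp i0 hζ0), cX_one, cX_hc hp i0 hζ0, ← zpow_natCast, ← zpow_mul, mul_comm, zpow_mul,
      zpow_natCast, hζ.pow_eq_one, one_zpow]
  have hju : ∀ x, cX hp (j u0⁻¹) x = (ζ ^ pairing (cartanOf D l) i0 x)⁻¹ := by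
    intro x
    rw [map_inv, cX_inv' hp hu0E.1, hu0, cX_hc hp i0 hζ0]
  have huT : j u0⁻¹ ∈ TT D k := (inv_mem hu0E).1
  refine H142.GmnCoreFive.rowS_core hEc hEp hZ ?_ s ?_ ⟨u0⁻¹, inv_mem hu0E⟩ (fun x => ((lg x : ℕ) : ZMod 5)) ?_ ?_ ?_
  · intro E' h1 h2 h3 h4
    exact EE_unique hp hk r cs hj hB hd5 hζ hW htors h1 h2 h3 h4
  · intro y hy
    refine ⟨?_, ?_⟩
    · rw [map_mul, map_mul, map_inv]
      exact (cX_rp hp hk r cs hs hy.1).1
    · rw [conj_pow, hy.2, mul_one, mul_inv_cancel]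
  · intro x y
    show ((lg (x * y) : ℕ) : ZMod 5) = ((lg x : ℕ) : ZMod 5) + ((lg y : ℕ) : ZMod 5)
    rw [← Nat.cast_add, ← hpe, hlg, pow_add, hlg, hlg]
    show cX hp (j ((x : S) * y)) (sr i0) = _
    rw [map_mul, cX_mul hp x.2.1 y.2.1]
  · intro x
    show s * x * s⁻¹ = x * u0⁻¹ ^ (((lg x : ℕ) : ZMod 5)).val
    obtain ⟨h1, h2⟩ := cX_rp hp hk r cs hs x.2.1
    apply hj
    rw [map_mul, map_mul, map_inv, map_mul, map_pow]
    refine cX_inj hp h1 (mul_mem x.2.1 (pow_mem huT _)) fun i => ?_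
    obtain ⟨n, hn⟩ : ∃ n, n = (((lg x : ℕ) : ZMod 5)).val := ⟨_, rfl⟩
    have h3 : rep cs hp.isCartan (cs.simple i0) (rep cs hp.isCartan (cs.simple i0) (sr i)) = sr i := by
      rw [← rep_mul_apply, cs.simple_mul_simple_self, map_one, Module.End.one_apply]
    have h4 := h2 (rep cs hp.isCartan (cs.simple i0) (sr i))
    rw [h3] at h4
    rw [h4, cX_mul hp x.2.1 (pow_mem huT _), cX_pow hp huT, hju, rep_simple, refl_apply]
    have hcX := isMC_cX hp x.2.1
    have h5 : sr i - Pi.single i0 (pairing (cartanOf D l) i0 (sr i)) =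
        sr i + (-pairing (cartanOf D l) i0 (sr i)) • (sr i0 : Fin l → ℤ) := by
      generalize pairing (cartanOf D l) i0 (sr i) = c
      rw [sub_eq_add_neg, ← Pi.single_neg]
      congr 1
      show Pi.single i0 (-c) = (-c) • (Pi.single i0 (1 : ℤ) : Fin l → ℤ)
      rw [← Pi.single_smul, smul_eq_mul, mul_one]
    rw [h5, hcX.add, hcX.zsmul, ← hval x, ← hn]
    congr 1
    rw [← zpow_natCast ζ n, ← zpow_natCast, ← zpow_mul, ← zpow_neg, ← zpow_mul]
    congr 1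
    ring
  · intro h0
    have h1 := hval ⟨u0⁻¹, inv_mem hu0E⟩
    have h2 : (((lg ⟨u0⁻¹, inv_mem hu0E⟩ : ℕ) : ZMod 5)) = 0 := h0
    rw [h2, ZMod.val_zero, pow_zero] at h1
    have h3 := hju (sr i0)
    have h4 : cX hp (j u0⁻¹) (sr i0) = 1 := h1.symm
    rw [h4] at h3
    have h5 : pairing (cartanOf D l) i0 (sr i0) = 2 := by
      rw [sr, pairing_single, mul_one]
      exact hp.isCartan.diag i0
    rw [h5] at h3
    have h6 : ζ ^ (2 : ℤ) = 1 := inv_eq_one.1 h3.symm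
    have h7 := (hζ.zpow_eq_one_iff_dvd 2).1 h6
    revert h7
    decide

end Fin

/-- **`E₆`, the prime `5`.** -/
theorem rowS_five {k : Type u} [Field k] [IsAlgClosed k] (hk : LocFin k) (r : ℕ) [Fact r.Prime] [CharP k r]
    (hr : r ≠ 5) {W : Type v} [Group W] (cs : CoxeterSystem CoxeterMatrix.E₆ W) {S : Type*} [Group S] [Finite S]
    (hZ : center S = ⊥) {ι : S →* ↥(chevE6.group k)} {v : ↥(chevE6.group k)} (H : TorSetup e6T hk r cs 5 ι v) :
    RowS 5 S := by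
  have hfin : Finite W := finite_W e6T cs
  have h5 : ((5 : ℕ) : k) ≠ 0 := by
    rw [Ne, CharP.cast_eq_zero_iff k r]
    intro h
    exact hr ((Nat.prime_dvd_prime_iff_eq Fact.out (by norm_num)).1 h)
  have h5' : NeZero ((5 : ℕ) : k) := ⟨h5⟩
  obtain ⟨ζ, hζ⟩ := IsAlgClosed.exists_root (Polynomial.cyclotomic 5 k)
    (by rw [Polynomial.degree_cyclotomic]; decide)
  have hζ' : IsPrimitiveRoot ζ 5 := Polynomial.isRoot_cyclotomic_iff.1 hζ
  refine rowS_of_setup e6T hk r cs inv_E6 (by norm_num) hζ' ?_ hZ 0 H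
  rw [Nat.card_congr cs.mulEquiv.toEquiv, ChevalleyStructure.WeylData.certE6.card_group.trans
    ChevalleyStructure.WeylData.size_E6]
  norm_num

end Cfsg.Agent.H142.GmnFive
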