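import Cfsg.Agent.H696.GmnUntw
import Cfsg.Agent.H507.GmnCover
import Cfsg.Agent.H712.GmnAb

/-!
# Guralnick-Malle-Navarro rows: the split torus

* `det_eq_one` : an element of the Weyl group acting trivially modulo the radical of the Cartan matrix modulo an odd prime
  `p` has determinant `1`;
* `rowS_split` : `Y` with a simply laced root group datum, `E` a `p`-subgroup of `T` normalised by `N`, on which the
  elements of `W` of determinant `-1` act nontrivially, the index of `N` prime to `p` : `RowS p Y`;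
* `rowS_chev` : the Chevalley groups with `p ∣ q - 1`.
-/

set_option autoImplicit false
set_option linter.unusedSectionVars false

namespace Cfsg.Agent.H142.GmnSplit

open CoxeterSystem Cfsg.Agent.ChevalleyStructure.CoxeterGeom Cfsg.Agent.Tits.Roots Cfsg.Agent.Tits.Core
  Cfsg.Agent.Tits.RootComb Cfsg.Agent.Tits.Exchange Cfsg.Agent.Nodes.Reps Cfsg.Agent.Nodes.BNOf
  Cfsg.Agent.Nodes.Comb Cfsg.Agent.Nodes.StabComb
  Cfsg.Agent.Nodes.Bruhat Cfsg.Agent.Nodes.OppDec Cfsg.Agent.Nodes.LeviDec Cfsg.Agent.Nodes.NormalForm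
  Cfsg.Agent.KFacts.RgdOpp Cfsg.Agent.KFacts.RgdAut Cfsg.Agent.KFacts.RgdDiag Cfsg.Agent.KFacts.RgdRigid
  Cfsg.Agent.KFacts.RgdField Cfsg.Agent.KFacts.RgdTau
  Cfsg.Agent.BpExc.Fr Cfsg.Agent.BpExc.FamFrame Cfsg.Agent.H712.Gmn

/-! ### determinants -/

section Det

variable {I W : Type*} [Fintype I] [DecidableEq I] [Group W] {M : CoxeterMatrix I}
  {cs : CoxeterSystem M W} {A : I → I → ℤ} {h : IsCartan M A}

/-- the pairing with a simple coroot, as a linear form -/
def pr (A : I → I → ℤ) (i : I) : Module.Dual ℤ (I → ℤ) where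
  toFun := pairing A i
  map_add' := pairing_add A i
  map_smul' c v := pairing_smul A i c v

theorem det_simple (i : I) : LinearMap.det (rep cs h (cs.simple i)) = -1 := by
  have h1 : rep cs h (cs.simple i) = LinearMap.transvection (-pr A i) (sr i) := by
    refine LinearMap.ext fun x => ?_
    rw [rep_simple_eq, LinearMap.transvection.apply]
    show x - pairing A i x • sr i = x + (-(pairing A i x)) • sr i
    rw [neg_smul, sub_eq_add_neg]
  rw [h1, LinearMap.transvection.det]
  show 1 + -(pairing A i (sr i)) = -1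
  rw [sr, pairing_single, h.diag]
  norm_num

/-- modulo `p` the Weyl group fixes the vectors of the radical -/
theorem rep_sub_dvd {p : ℕ} (w : W) {v : I → ℤ} (hv : ∀ j, (p : ℤ) ∣ pairing A j v) :
    ∀ k, (p : ℤ) ∣ (rep cs h w v - v) k := by
  obtain ⟨ω, rfl⟩ := cs.wordProd_surjective w
  suffices H : (∀ k, (p : ℤ) ∣ (rep cs h (cs.wordProd ω) v - v) k) ∧
      ∀ j, (p : ℤ) ∣ pairing A j (rep cs h (cs.wordProd ω) v) from H.1
  induction ω with
  | nil =>
    rw [wordProd_nil, map_one, Module.End.one_apply, sub_self]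
    exact ⟨fun k => dvd_zero _, hv⟩
  | cons i ω ih =>
    rw [wordProd_cons, rep_mul_apply, rep_simple_eq]
    set x := rep cs h (cs.wordProd ω) v
    obtain ⟨c, hc⟩ := ih.2 i
    refine ⟨fun k => ?_, fun j => ?_⟩
    · have e : (x - pairing A i x • sr i - v) k = (x - v) k - (p : ℤ) * (c * sr i k) := by
        simp only [Pi.sub_apply, Pi.smul_apply, smul_eq_mul]
        rw [hc]; ring
      rw [e]
      exact dvd_sub (ih.1 k) (Dvd.intro _ rfl)
    · have e : pairing A j (x - pairing A i x • sr i) = pairing A j x - (p : ℤ) * (c * pairing A j (sr i)) := by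
        rw [sub_eq_add_neg, ← neg_smul, pairing_add, pairing_smul, hc]; ring
      rw [e]
      exact dvd_sub (ih.2 j) (Dvd.intro _ rfl)

/-- An element of `W` acting trivially modulo the radical modulo `p` has determinant `1`. -/
theorem det_eq_one {p : ℕ} [hp : Fact p.Prime] (hp2 : p ≠ 2) (w : W)
    (hw : ∀ i j, (p : ℤ) ∣ pairing A j (rep cs h w (sr i) - sr i)) : LinearMap.det (rep cs h w) = 1 := by
  classical
  set L := rep cs h w with hL
  let N : Matrix I I ℤ := LinearMap.toMatrix' (L - 1)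
  have hdet : LinearMap.det L = (N + 1).det := by
    rw [← LinearMap.det_toMatrix', show N + 1 = LinearMap.toMatrix' L by
      show LinearMap.toMatrix' (L - 1) + 1 = _
      rw [map_sub, Module.End.one_eq_id, LinearMap.toMatrix'_id, sub_add_cancel]]
  let B : Matrix I I (ZMod p) := N.map (Int.castRingHom (ZMod p))
  have hB2 : B * B = 0 := by
    have h1 : B * B = (N * N).map (Int.castRingHom (ZMod p)) := (Matrix.map_mul (f := Int.castRingHom (ZMod p))).symm
    have h2 : N * N = LinearMap.toMatrix' ((L - 1) * (L - 1)) := (LinearMap.toMatrix'_mul _ _).symm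
    rw [h1, h2]
    ext a b
    rw [Matrix.map_apply, LinearMap.toMatrix'_apply, Matrix.zero_apply, eq_intCast, ZMod.intCast_zmod_eq_zero_iff_dvd]
    have h3 : (Pi.single b 1 : I → ℤ) = sr b := rfl
    have h4 : (fun j' => if j' = b then (1 : ℤ) else 0) = sr b := by
      rw [← h3]
      funext k
      rw [Pi.single_apply]
    show (p : ℤ) ∣ ((L - 1) * (L - 1)) _ a
    rw [show (Pi.single b 1 : I → ℤ) = sr b from rfl, Module.End.mul_apply]
    exact rep_sub_dvd w (fun j => hw b j) a
  have hB : (B + 1) ^ p = 1 := by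
    have hc : Commute (B + 1) 1 := Commute.one_right _
    have : CharP (Matrix I I (ZMod p)) p ∨ IsEmpty I := by
      rcases isEmpty_or_nonempty I with h0 | h0
      · exact Or.inr h0
      · exact Or.inl inferInstance
    rcases this with h0 | h0
    · have h1 := sub_pow_char_of_commute (p := p) hc
      rw [add_sub_cancel_right, one_pow] at h1
      have h2 : B ^ p = 0 := by
        have h2 : B ^ (2 + (p - 2)) = 0 := by rw [pow_add, sq, hB2, zero_mul]
        have h3 : 2 + (p - 2) = p := by have := hp.out.two_le; omega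
        rwa [h3] at h2
      rw [h2] at h1
      exact (sub_eq_zero.1 h1.symm)
    · ext a
      exact h0.elim a
  have hd : ((N + 1).det : ZMod p) = 1 := by
    have h1 : ((N + 1).det : ZMod p) = (B + 1).det := by
      have h2 : B + 1 = (N + 1).map (Int.castRingHom (ZMod p)) := by
        rw [Matrix.map_add _ (map_add _)]
        congr 1
        exact ((Int.castRingHom (ZMod p)).mapMatrix.map_one).symm
      rw [h2]
      exact (RingHom.map_det (Int.castRingHom (ZMod p)) (N + 1)).trans rfl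
    have h3 : (B + 1).det ^ p = 1 := by rw [← Matrix.det_pow, hB, Matrix.det_one]
    rw [ZMod.pow_card] at h3
    rw [h1, h3]
  have hu : IsUnit (LinearMap.det L) := by
    have h1 : L * rep cs h w⁻¹ = 1 := by rw [hL, ← map_mul, mul_inv_cancel, map_one]
    have h2 := congrArg LinearMap.det h1
    rw [map_mul, map_one] at h2
    exact IsUnit.of_mul_eq_one _ h2
  rcases Int.isUnit_iff.1 hu with h1 | h1
  · exact h1
  · exfalso
    rw [← hdet, h1] at hd
    have h2 : ((2 : ℕ) : ZMod p) = 0 := by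
      push_cast at hd ⊢
      linear_combination -hd
    rw [ZMod.natCast_eq_zero_iff] at h2
    exact hp2 ((Nat.prime_dvd_prime_iff_eq hp.out Nat.prime_two).1 h2)

end Det

/-! ### the group of frame automorphisms -/

section Frm

variable {I W Y : Type*} [Fintype I] [DecidableEq I] [Group W] [Group Y] {M : CoxeterMatrix I}
  {cs : CoxeterSystem M W} {A : I → I → ℤ} {h : IsCartan M A} {r : ℕ} {T : Subgroup Y} {n : I → Y}
  {X : (I → ℤ) → Subgroup Y} (R : RGD cs h r T n X)

include R

/-- the order of `N` -/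
theorem rp_inj [Finite W] {w w' : W} {g : Y} (h1 : Rp cs R.nsys w g) (h2 : Rp cs R.nsys w' g) : w = w' := by
  have h3 := h1.inv.mul h2
  rw [inv_mul_cancel] at h3
  exact inv_mul_eq_one.1 (R.eq_one_of_mem_B h3 (one_mem _))

theorem card_NN [Finite W] : Nat.card ↥(NN cs R.nsys) = Nat.card W * Nat.card ↥T := by
  classical
  choose k hk using exists_rp cs R.nsys
  rw [← Nat.card_prod]
  symm
  refine Nat.card_congr (Equiv.ofBijective (fun x : W × ↥T => (⟨k x.1 * x.2, x.1, (hk x.1).mul_mem_right x.2.2⟩ :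
    ↥(NN cs R.nsys))) ⟨?_, ?_⟩)
  · rintro ⟨w, t⟩ ⟨w', t'⟩ e
    have e' : k w * t = k w' * t' := congrArg Subtype.val e
    have h1 := (hk w).mul_mem_right t.2
    rw [e'] at h1
    have h2 := rp_inj R h1 ((hk w').mul_mem_right t'.2)
    subst h2
    rw [Prod.mk.injEq]
    exact ⟨rfl, Subtype.ext (mul_left_cancel e')⟩
  · rintro ⟨g, w, hg⟩
    refine ⟨⟨w, ⟨(k w)⁻¹ * g, (hk w).unique hg⟩⟩, Subtype.ext ?_⟩
    show k w * ((k w)⁻¹ * g) = g
    rw [mul_inv_cancel_left]

theorem fr_rp {w : W} {g : Y} (hg : Rp cs R.nsys w g) : Fr cs h T X (MulAut.conj g) (repAut cs h w) where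
  tor t := by
    rw [MulAut.conj_apply]
    exact ((Subgroup.mem_normalizer_iff.1 hg.mem_normalizer) t).symm
  root a := by
    rw [repAut_apply]
    constructor
    · intro h1
      have := h1.act w⁻¹
      rwa [← rep_mul_apply, inv_mul_cancel, map_one, Module.End.one_apply] at this
    · exact fun h1 => h1.act w
  map a ha y := by
    rw [repAut_apply, ← R.conj_rp hg ha, MulAut.conj_apply]
    constructor
    · intro h1
      have h2 := mem_cj.1 h1
      have e : g⁻¹ * (g * y * g⁻¹) * g = y := by group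
      rwa [e] at h2
    · intro h1
      exact conj_mem_cj.2 h1

omit R [Fintype I] [DecidableEq I] in
/-- a permutation of the coordinates -/
def permAut (σ : Equiv.Perm I) : (I → ℤ) ≃+ (I → ℤ) where
  toFun x := x ∘ σ.symm
  invFun x := x ∘ σ
  left_inv x := by funext i; simp
  right_inv x := by funext i; simp
  map_add' x y := rfl

omit R in
theorem isRoot_comp {σ : Equiv.Perm I} (hσ : ∀ i j, M (σ i) (σ j) = M i j) (hA : ∀ i j, A (σ i) (σ j) = A i j)
    {x : I → ℤ} (hx : IsRoot cs h x) : IsRoot cs h (x ∘ σ.symm) := by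
  obtain ⟨w, i, rfl⟩ := hx
  rw [← rep_hat hσ hA, sr_comp]
  exact ⟨_, _, rfl⟩

theorem fr_diag [Finite W] {β : MulAut Y} {σ : Equiv.Perm I} (D : Diag T X β σ)
    (hA : ∀ i j, A (σ i) (σ j) = A i j) : Fr cs h T X β (permAut σ) where
  tor := D.tor
  root a := by
    have hσ := D.matrix R
    refine ⟨fun h1 => ?_, isRoot_comp hσ hA⟩
    have h2 := isRoot_comp (cs := cs) (h := h) (σ := σ.symm) (fun i j => by
      rw [← hσ, Equiv.apply_symm_apply, Equiv.apply_symm_apply]) (fun i j => by
      rw [← hA, Equiv.apply_symm_apply, Equiv.apply_symm_apply]) h1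
    have e : ((permAut σ a) ∘ σ.symm.symm : I → ℤ) = a := by
      funext i
      show a (σ.symm (σ i)) = a i
      rw [Equiv.symm_apply_apply]
    rwa [e] at h2
  map a ha y := D.root_comp R hA ha y

/-- the action on the lattice is unique -/
theorem fr_unique [Finite W] {α : MulAut Y} {g g' : (I → ℤ) ≃+ (I → ℤ)} (F : Fr cs h T X α g)
    (F' : Fr cs h T X α g') : g = g' := by
  have h1 : ∀ i, g (sr i) = g' (sr i) := by
    intro i
    have hi := isRoot_sr cs h i
    refine X_injective R ((F.root _).2 hi) ((F'.root _).2 hi) ?_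
    ext y
    have h2 := F.map _ hi (α⁻¹ y)
    have h3 := F'.map _ hi (α⁻¹ y)
    rw [MulAut.apply_inv_self] at h2 h3
    rw [h2, h3]
  refine AddEquiv.ext fun x => ?_
  have hx : x = ∑ i, x i • sr i := by
    funext m
    rw [Finset.sum_apply, Finset.sum_eq_single m]
    · rw [Pi.smul_apply, sr_self, smul_eq_mul, mul_one]
    · intro b _ hb
      rw [Pi.smul_apply, sr_ne (Ne.symm hb), smul_zero]
    · intro h; exact absurd (Finset.mem_univ m) h
  rw [hx, map_sum, map_sum]
  refine Finset.sum_congr rfl fun i _ => ?_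
  rw [map_zsmul, map_zsmul, h1]

omit R in
variable (cs h T X) in
/-- the group of frame automorphisms (all signs) -/
def FrG : Subgroup (MulAut Y) where
  carrier := {α | ∃ g, Fr cs h T X α g}
  one_mem' := ⟨_, Fr.one⟩
  mul_mem' := by
    rintro α β ⟨g, F⟩ ⟨g', F'⟩
    exact ⟨_, F.mul F'⟩
  inv_mem' := by
    rintro α ⟨g, F⟩
    exact ⟨_, F.inv⟩

/-- the determinant -/
noncomputable def dt [Finite W] : ↥(FrG cs h T X) →* ℤˣ where
  toFun α := LinearEquiv.det (α.2.choose.toIntLinearEquiv)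
  map_one' := by
    have h1 := fr_unique R (1 : ↥(FrG cs h T X)).2.choose_spec Fr.one
    rw [h1]
    exact map_one LinearEquiv.det
  map_mul' α β := by
    have h1 := fr_unique R (α * β).2.choose_spec (α.2.choose_spec.mul β.2.choose_spec)
    rw [h1]
    exact map_mul LinearEquiv.det α.2.choose.toIntLinearEquiv β.2.choose.toIntLinearEquiv

theorem dt_apply [Finite W] {α : ↥(FrG cs h T X)} {g : (I → ℤ) ≃+ (I → ℤ)} (F : Fr cs h T X (α : MulAut Y) g) :
    dt R α = LinearEquiv.det g.toIntLinearEquiv := by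
  have h1 := fr_unique R α.2.choose_spec F
  show LinearEquiv.det (α.2.choose.toIntLinearEquiv) = _
  rw [h1]

theorem dt_rp [Finite W] {α : ↥(FrG cs h T X)} {w : W} (F : Fr cs h T X (α : MulAut Y) (repAut cs h w)) :
    ((dt R α : ℤˣ) : ℤ) = LinearMap.det (rep cs h w) := by
  rw [dt_apply R F, LinearEquiv.coe_det]
  rfl

/-- An inner frame automorphism comes from `N`. -/
theorem rp_of_fr' [Finite W] [Finite Y] [Fact r.Prime] (hG : GG cs h T X = ⊤) {y : Y} {g : (I → ℤ) ≃+ (I → ℤ)}
    (F : Fr cs h T X (MulAut.conj y) g) : ∃ w, Rp cs R.nsys w y ∧ g = repAut cs h w := by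
  obtain ⟨v, -, hv⟩ := exists_adjust (cs := cs) (h := h) {a | IsRoot cs h a} ⊤ (by
    rintro a ⟨w, i, e⟩
    exact ⟨w, i, e, Subgroup.mem_top _⟩) g fun a ha => (F.root a).2 ha
  obtain ⟨k, hk⟩ := exists_rp cs R.nsys v
  have F1 := F.mul (fr_rp R hk)
  rw [← map_mul] at F1
  have hpos : ∀ a, ((repAut cs h v).trans g) a ∈ RGD.Pos cs h ↔ a ∈ RGD.Pos cs h := by
    intro a
    constructor
    · rintro ⟨h1, h2⟩
      have ha := (F1.root a).1 h1
      refine ⟨ha, ?_⟩
      rcases ha.pos_or_neg with h3 | h3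
      · exact h3
      · exfalso
        have h4 : 0 ≤ g (rep cs h v (-a)) := hv (-a) ha.neg (neg_nonneg.2 h3)
        rw [map_neg, map_neg, Left.nonneg_neg_iff] at h4
        exact h1.ne_zero (le_antisymm h4 h2)
    · rintro ⟨h1, h2⟩
      exact ⟨(F1.root a).2 h1, hv a h1 h2⟩
  have hneg : ∀ a, ((repAut cs h v).trans g) a ∈ Neg cs h ↔ a ∈ Neg cs h := by
    intro a
    have h1 : ∀ b, b ∈ Neg cs h ↔ -b ∈ RGD.Pos cs h := by
      intro b
      constructor
      · rintro ⟨h2, h3⟩
        exact ⟨h2.neg, neg_nonneg.2 h3⟩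
      · rintro ⟨h2, h3⟩
        have := h2.neg
        rw [neg_neg] at this
        exact ⟨this, neg_nonneg.1 h3⟩
    rw [h1, h1, ← map_neg, hpos]
  have h1 : Fix (MulAut.conj (y * k)) (RGD.Sup X (RGD.Pos cs h)) := fun z =>
    F1.mem_Sup (S := RGD.Pos cs h) (fun a ha => ha.1) hpos z
  have h2 : Fix (MulAut.conj (y * k)) (UN cs h X) := fun z =>
    F1.mem_Sup (S := Neg cs h) (fun a ha => ha.1) hneg z
  have h3 := mem_T_of_frame R hG h1 h2
  have h4 : Rp cs R.nsys v⁻¹ y := by
    have h5 := (rp_of_mem (cs := cs) (hN := R.nsys) h3).mul hk.inv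
    rwa [one_mul, mul_inv_cancel_right] at h5
  exact ⟨_, h4, fr_unique R F (fr_rp R h4)⟩

/-- The index of the group of frame automorphisms divides the index of `N`. -/
theorem index_dvd [Finite W] [Finite Y] [Fact r.Prime] (hG : GG cs h T X = ⊤)
    (hl : ∀ i j, i ≠ j → M i j = 2 ∨ M i j = 3) : (FrG cs h T X).index ∣ (NN cs R.nsys).index := by
  have hfin := finite_mulAut (S := Y)
  let J : Subgroup (MulAut Y) := (MulAut.conj : Y →* MulAut Y).range
  have hJn : J.Normal := by
    refine ⟨?_⟩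
    rintro _ ⟨s, rfl⟩ g
    exact ⟨g s, (mul_conj_inv g s).symm⟩
  have htop : FrG cs h T X ⊔ J = ⊤ := by
    rw [eq_top_iff]
    intro x _
    obtain ⟨g, -, -, σ, D⟩ := exists_frame_any R hG x
    have h1 : MulAut.conj g * x ∈ FrG cs h T X := ⟨_, fr_diag R D (cartan_of_laced h hl (D.matrix R))⟩
    have h2 : x = (MulAut.conj g)⁻¹ * (MulAut.conj g * x) := by group
    rw [h2]
    exact mul_mem (inv_mem (Subgroup.mem_sup_right ⟨g, rfl⟩)) (Subgroup.mem_sup_left h1)
  have h1 : (FrG cs h T X).index = (FrG cs h T X).relIndex J := by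
    have h2 := H507.Gmn.relIndex_sup_self (FrG cs h T X) J
    rwa [htop, Subgroup.relIndex_top_right] at h2
  rw [h1]
  have h2 : (FrG cs h T X).relIndex J = ((FrG cs h T X).comap MulAut.conj).index := by
    rw [Subgroup.index_comap]
  rw [h2]
  refine Subgroup.index_dvd_of_le ?_
  rintro g ⟨w, hg⟩
  exact ⟨_, fr_rp R hg⟩

/-- **The split torus.** -/
theorem rowS_split [Finite W] [Finite Y] [Fact r.Prime] [Nonempty I] {p : ℕ} [hp : Fact p.Prime] (hp2 : p ≠ 2)
    (hG1 : RGD.Sup X {x | IsRoot cs h x} = ⊤) (hZ : Subgroup.center Y = ⊥)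
    (hl : ∀ i j, i ≠ j → M i j = 2 ∨ M i j = 3) (hidx : ¬ p ∣ (NN cs R.nsys).index) (E : Subgroup Y)
    (hEp : IsPGroup p E) (hEn : ∀ w k, Rp cs R.nsys w k → ∀ t ∈ E, k * t * k⁻¹ ∈ E)
    (hE : ∀ w k, Rp cs R.nsys w k → (∀ t ∈ E, k * t * k⁻¹ = t) → LinearMap.det (rep cs h w) = 1) : RowS p Y := by
  have hfin := finite_mulAut (S := Y)
  have hG := GG_eq_top (T := T) hG1
  intro B hB Q hQ
  obtain ⟨i⟩ : Nonempty I := inferInstance
  have key : ∀ w : ↥(FrG cs h T X), (w : MulAut Y) ∈ (MulAut.conj : Y →* MulAut Y).range →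
      ∃ (v : W) (k : Y), Rp cs R.nsys v k ∧ (w : MulAut Y) = MulAut.conj k ∧
        ((dt R w : ℤˣ) : ℤ) = LinearMap.det (rep cs h v) := by
    rintro ⟨_, g, F⟩ ⟨k, rfl⟩
    obtain ⟨v, hv, rfl⟩ := rp_of_fr' R hG F
    exact ⟨v, k, hv, rfl, dt_rp R F⟩
  refine H507.Gmn.cover_strong hZ (MonoidHom.id (MulAut Y)) (FrG cs h T X) (fun hd => hidx (hd.trans
    (index_dvd R hG hl))) (K := ℤˣ) ?_ (dt R) ?_ E hEp ?_ ?_ B hB (fun x _ => ⟨x, rfl⟩) Q ?_
  · intro hd
    have h1 : Nat.card ℤˣ = 2 := by simp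
    rw [h1] at hd
    exact hp2 ((Nat.prime_dvd_prime_iff_eq hp.out Nat.prime_two).1 hd)
  · have F := fr_rp R (rp_simple cs R.nsys i)
    refine ⟨⟨MulAut.conj (n i), _, F⟩, ⟨n i, rfl⟩, fun h1 => ?_⟩
    have h2 := dt_rp R (α := ⟨MulAut.conj (n i), _, F⟩) F
    rw [det_simple, h1] at h2
    norm_num at h2
  · intro w hw t ht
    obtain ⟨v, k, hv, e, -⟩ := key w hw
    show (w : MulAut Y) t ∈ E
    rw [e, MulAut.conj_apply]
    exact hEn v k hv t ht
  · intro w _ hw hdt
    by_contra hcon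
    push Not at hcon
    obtain ⟨v, k, hv, e, hdet⟩ := key w hw
    apply hdt
    apply Units.ext
    rw [hdet, hE v k hv fun t ht => ?_]
    · rfl
    · have h1 : (w : MulAut Y) t = t := hcon t ht
      rw [e, MulAut.conj_apply] at h1
      exact h1
  · rintro _ ⟨x, hx, rfl⟩
    exact hQ x hx

end Frm

end Cfsg.Agent.H142.GmnSplit
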