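import Cfsg.Agent.Characters.Core
import Cfsg.Agent.Blocks.Basic
import Cfsg.Agent.S0134
import Cfsg.Agent.S0135
import Cfsg.Agent.S0154
import Cfsg.Agent.S0169

/-!
# Counting irreducible characters of degree prime to `ℓ`

`np ℓ G` is the number of irreducible characters of `G` of degree not divisible by `ℓ`.
* `np_congr`: invariance under isomorphism; `np_normalizer_congr`: conjugate subgroups.
* `np_eq_card_conjClasses`: if `G` has an abelian normal subgroup of index prime to `ℓ` (Itô).
* `np_two_of_isPGroup`: for a `2`-group (any `p`-group) it is the index of the commutator subgroup.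
* `np_of_card_24`: a group of order `24` with commutator subgroup of index `3`.
* `np_eq_sum`: fibrewise count.
-/

set_option autoImplicit false
open Cfsg

namespace Cfsg.Agent.H142.McKayCount

open Cfsg.Agent.Characters.Core
open Cfsg.Agent.Blocks.Basic (charDegree_of_eq irr_one_eq_charDegree charDegree_pos charDegree_def)

/-- The number of irreducible characters of degree not divisible by `ℓ`. -/
noncomputable def np (ℓ : ℕ) (G : Type*) [Group G] : ℕ :=
  Nat.card {χ : IrrCharacter G // ¬ ℓ ∣ charDegree (χ : G → ℂ)}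

theorem np_def (ℓ : ℕ) (G : Type*) [Group G] :
    np ℓ G = Nat.card {χ : IrrCharacter G // ¬ ℓ ∣ charDegree (χ : G → ℂ)} := rfl

/-- Transport of irreducible characters along an isomorphism. -/
noncomputable def irrEquiv {G H : Type*} [Group G] [Group H] (e : G ≃* H) :
    IrrCharacter H ≃ IrrCharacter G where
  toFun χ := ⟨(χ : H → ℂ) ∘ e, isIrr_comp e.toMonoidHom e.surjective χ.2⟩
  invFun χ := ⟨(χ : G → ℂ) ∘ e.symm, isIrr_comp e.symm.toMonoidHom e.symm.surjective χ.2⟩
  left_inv χ := by
    apply Subtype.ext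
    funext h
    simp
  right_inv χ := by
    apply Subtype.ext
    funext h
    simp

theorem np_congr {G H : Type*} [Group G] [Group H] (e : G ≃* H) (ℓ : ℕ) : np ℓ G = np ℓ H := by
  refine (Nat.card_congr (Equiv.subtypeEquiv (irrEquiv e) ?_)).symm
  intro χ
  have h : charDegree ((irrEquiv e χ : IrrCharacter G) : G → ℂ) = charDegree (χ : H → ℂ) := by
    rw [charDegree_def, charDegree_def]
    change ⌊((χ : H → ℂ) (e 1)).re⌋₊ = _
    rw [map_one]
  rw [h]

/-- The normalisers of two conjugate subgroups. -/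
theorem np_normalizer_conj {G : Type*} [Group G] (H : Subgroup G) (g : G) (ℓ : ℕ) :
    np ℓ ↥(Subgroup.normalizer ((H.map (MulAut.conj g).toMonoidHom : Subgroup G) : Set G)) =
      np ℓ ↥(Subgroup.normalizer (H : Set G)) := by
  have h1 : (Subgroup.normalizer (H : Set G)).map (MulAut.conj g).toMonoidHom =
      Subgroup.normalizer ((H.map (MulAut.conj g).toMonoidHom : Subgroup G) : Set G) := by
    have := Subgroup.map_equiv_normalizer_eq H (MulAut.conj g)
    simpa using this
  rw [← h1]
  exact (np_congr ((MulAut.conj g).subgroupMap (Subgroup.normalizer (H : Set G))) ℓ).symm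

theorem np_normalizer_sylow {G : Type*} [Group G] [Finite G] {ℓ : ℕ} [Fact ℓ.Prime] (P Q : Sylow ℓ G) (m : ℕ) :
    np m ↥(Subgroup.normalizer ((P : Subgroup G) : Set G)) =
      np m ↥(Subgroup.normalizer ((Q : Subgroup G) : Set G)) := by
  obtain ⟨g, hg⟩ := MulAction.exists_smul_eq G P Q
  have h1 : (P : Subgroup G).map (MulAut.conj g).toMonoidHom = Q := by
    rw [← hg]; rfl
  rw [← h1, np_normalizer_conj]

/-- If the subgroup is normal its normaliser has the same count as the group. -/
theorem np_normalizer_of_normal {G : Type*} [Group G] (H : Subgroup G) [H.Normal] (ℓ : ℕ) :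
    np ℓ ↥(Subgroup.normalizer (H : Set G)) = np ℓ G := by
  rw [Subgroup.normalizer_eq_top]
  exact np_congr Subgroup.topEquiv ℓ

variable {G : Type*} [Group G] [Finite G]

theorem charDegree_dvd_index (A : Subgroup G) [A.Normal] (hA : ∀ a ∈ A, ∀ b ∈ A, a * b = b * a)
    (χ : IrrCharacter G) : charDegree (χ : G → ℂ) ∣ A.index := by
  obtain ⟨χ, n, ρ, hρ, rfl⟩ := χ
  rw [charDegree_of_eq (n := Module.finrank ℂ (Fin n → ℂ)) (Representation.char_one (ρ := ρ))]
  exact Cfsg.Agent.S0169.result ρ A hA

/-- With an abelian normal subgroup of index prime to `ℓ`, all degrees are prime to `ℓ`. -/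
theorem np_eq_card_conjClasses {ℓ : ℕ} (A : Subgroup G) [A.Normal]
    (hA : ∀ a ∈ A, ∀ b ∈ A, a * b = b * a) (hi : ¬ ℓ ∣ A.index) :
    np ℓ G = Nat.card (ConjClasses G) := by
  rw [← card_irr, np]
  refine Nat.card_congr (Equiv.subtypeUnivEquiv fun χ h => hi (h.trans (charDegree_dvd_index A hA χ)))

theorem charDegree_dvd_card (χ : IrrCharacter G) : charDegree (χ : G → ℂ) ∣ Nat.card G := by
  have : Fintype G := Fintype.ofFinite G
  obtain ⟨χ, n, ρ, hρ, rfl⟩ := χ
  have h1 := Cfsg.Agent.S0135.result ρ
  rw [charDegree_of_eq (n := Module.finrank ℂ (Fin n → ℂ)) (Representation.char_one (ρ := ρ))]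
  exact h1

theorem charDegree_eq_one_iff (χ : IrrCharacter G) :
    charDegree (χ : G → ℂ) = 1 ↔ (χ : G → ℂ) 1 = 1 := by
  constructor
  · intro h
    rw [irr_one_eq_charDegree χ.2, h, Nat.cast_one]
  · intro h
    exact charDegree_of_eq (n := 1) (by rw [h, Nat.cast_one])

/-- In a `p`-group the characters of degree prime to `p` are the linear ones. -/
theorem np_of_isPGroup {p : ℕ} [hp : Fact p.Prime] (hG : IsPGroup p G) :
    np p G = (commutator G).index := by
  rw [← Cfsg.Agent.S0154.result, np]
  refine Nat.card_congr (Equiv.subtypeEquivRight fun χ => ?_)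
  rw [← charDegree_eq_one_iff]
  obtain ⟨n, hn⟩ := IsPGroup.iff_card.1 hG
  have h1 := charDegree_dvd_card χ
  rw [hn] at h1
  obtain ⟨k, hk, hk2⟩ := (Nat.dvd_prime_pow hp.out).1 h1
  rw [hk2]
  constructor
  · intro h
    have : k = 0 := by
      by_contra hk0
      exact h (dvd_pow_self p hk0)
    rw [this, pow_zero]
  · intro h h2
    rw [h] at h2
    exact hp.out.one_lt.ne' (Nat.dvd_one.1 h2)

theorem sum_deg_sq [Fintype (IrrCharacter G)] :
    ∑ χ : IrrCharacter G, charDegree (χ : G → ℂ) ^ 2 = Nat.card G := by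
  have h := Cfsg.Agent.S0134.result (G := G)
  rw [finsum_eq_sum_of_fintype] at h
  have h2 : ((∑ χ : IrrCharacter G, charDegree (χ : G → ℂ) ^ 2 : ℕ) : ℂ) = (Nat.card G : ℂ) := by
    rw [← h]
    push_cast
    refine Finset.sum_congr rfl fun χ _ => ?_
    rw [← irr_one_eq_charDegree χ.2]
  exact_mod_cast h2

/-- The number of irreducible characters of degree `d`. -/
noncomputable def cd (d : ℕ) (G : Type*) [Group G] : ℕ :=
  Nat.card {χ : IrrCharacter G // (χ : G → ℂ) 1 = (d : ℂ)}

theorem cd_eq (d : ℕ) [Fintype (IrrCharacter G)] :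
    cd d G = (Finset.univ.filter fun χ : IrrCharacter G => charDegree (χ : G → ℂ) = d).card := by
  classical
  rw [cd, Nat.card_eq_fintype_card, Fintype.card_subtype]
  congr 1
  ext χ
  simp only [Finset.mem_filter, Finset.mem_univ, true_and]
  constructor
  · intro h; exact charDegree_of_eq h
  · intro h; rw [irr_one_eq_charDegree χ.2, h]

/-- Fibrewise count over the set of degrees. -/
theorem np_eq_sum {ℓ : ℕ} (D : Finset ℕ) (hD : ∀ χ : IrrCharacter G, charDegree (χ : G → ℂ) ∈ D) :
    np ℓ G = ∑ d ∈ D, if ℓ ∣ d then 0 else cd d G := by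
  classical
  have := finite_irr (G := G)
  have := Fintype.ofFinite (IrrCharacter G)
  have h1 : np ℓ G = (Finset.univ.filter fun χ : IrrCharacter G => ¬ ℓ ∣ charDegree (χ : G → ℂ)).card := by
    rw [np, Nat.card_eq_fintype_card, Fintype.card_subtype]
  rw [h1, Finset.card_eq_sum_card_fiberwise (t := D) (f := fun χ : IrrCharacter G => charDegree (χ : G → ℂ))
    (fun χ _ => hD χ)]
  refine Finset.sum_congr rfl fun d _ => ?_
  split_ifs with h
  · rw [Finset.card_eq_zero, Finset.filter_eq_empty_iff]
    intro χ hχ h2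
    rw [Finset.mem_filter] at hχ
    rw [h2] at hχ
    exact hχ.2 h
  · rw [cd_eq]
    congr 1
    ext χ
    simp only [Finset.mem_filter, Finset.mem_univ, true_and]
    constructor
    · rintro ⟨-, h2⟩; exact h2
    · intro h2; exact ⟨by rwa [h2], h2⟩

theorem sum_cd (D : Finset ℕ) (hD : ∀ χ : IrrCharacter G, charDegree (χ : G → ℂ) ∈ D) :
    ∑ d ∈ D, cd d G * d ^ 2 = Nat.card G := by
  classical
  have := finite_irr (G := G)
  have := Fintype.ofFinite (IrrCharacter G)
  rw [← sum_deg_sq, ← Finset.sum_fiberwise_of_maps_to (t := D)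
    (g := fun χ : IrrCharacter G => charDegree (χ : G → ℂ)) (fun χ _ => hD χ)]
  refine Finset.sum_congr rfl fun d _ => ?_
  rw [Finset.sum_congr rfl (g := fun _ => d ^ 2) (fun χ hχ => by
    rw [Finset.mem_filter] at hχ; rw [hχ.2]), Finset.sum_const, smul_eq_mul, cd_eq]

/-- Groups of order `24` with commutator subgroup of index `3` (such as `SL_2(3)`). -/
theorem np_of_card_24 (h24 : Nat.card G = 24) (h3 : (commutator G).index = 3) :
    np 2 G = 4 ∧ np 3 G = 6 := by
  classical
  have := finite_irr (G := G)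
  have := Fintype.ofFinite (IrrCharacter G)
  have hle : ∀ χ : IrrCharacter G, charDegree (χ : G → ℂ) ^ 2 ≤ 24 := by
    intro χ
    rw [← h24, ← sum_deg_sq]
    exact Finset.single_le_sum (f := fun χ : IrrCharacter G => charDegree (χ : G → ℂ) ^ 2)
      (fun _ _ => Nat.zero_le _) (Finset.mem_univ χ)
  have hD : ∀ χ : IrrCharacter G, charDegree (χ : G → ℂ) ∈ ({1, 2, 3, 4} : Finset ℕ) := by
    intro χ
    have h1 := hle χ
    have h2 := charDegree_pos χ.2
    have h4 : charDegree (χ : G → ℂ) < 5 := by nlinarith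
    simp only [Finset.mem_insert, Finset.mem_singleton]
    omega
  have hc1 : cd 1 G = 3 := by
    rw [cd, ← h3, ← Cfsg.Agent.S0154.result]
    simp
  have hs := sum_cd _ hD
  rw [Finset.sum_insert (by decide), Finset.sum_insert (by decide), Finset.sum_insert (by decide),
    Finset.sum_singleton, hc1, h24] at hs
  have h4 : cd 4 G ≤ 1 := by omega
  have h4' : cd 4 G = 0 := by omega
  have h3' : cd 3 G = 1 := by omega
  have h2' : cd 2 G = 3 := by omega
  constructor
  · rw [np_eq_sum _ hD, Finset.sum_insert (by decide), Finset.sum_insert (by decide),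
      Finset.sum_insert (by decide), Finset.sum_singleton, hc1, h2', h3', h4']
    decide
  · rw [np_eq_sum _ hD, Finset.sum_insert (by decide), Finset.sum_insert (by decide),
      Finset.sum_insert (by decide), Finset.sum_singleton, hc1, h2', h3', h4']
    decide

end Cfsg.Agent.H142.McKayCount
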