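import Cfsg.Agent.H142.McKayTwo

/-!
# The McKay equality for `SL_2(q)`, `q` odd

`main`: deduced from the list of degrees of the irreducible characters with multiplicities
(hypothesis `h`, the statement of S2299).
-/

set_option autoImplicit false
open Cfsg

namespace Cfsg.Agent.H142.McKayMain

open scoped MatrixGroups
open Cfsg.Agent.H140.SLTwo Cfsg.Agent.H140.Tori Cfsg.Agent.H142.McKayCount Cfsg.Agent.H142.McKayN
  Cfsg.Agent.H142.McKayTwo
open Cfsg.Agent.Blocks.Basic (charDegree_of_eq)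

variable {F : Type*} [Field F] [Fintype F]

/-- The count for `SL_2(q)`, `q ≥ 5` odd. -/
theorem np_SL (h5 : 5 ≤ Fintype.card F) (hodd : Odd (Fintype.card F)) (ℓ : ℕ) (hℓ : ℓ.Prime)
    (h : (∀ χ : SL(2, F) → ℂ, Cfsg.IsIrrCharacter SL(2, F) χ →
      χ 1 = 1 ∨ χ 1 = (Fintype.card F : ℂ) ∨ χ 1 = (Fintype.card F : ℂ) + 1 ∨ χ 1 = (Fintype.card F : ℂ) - 1 ∨
        χ 1 = (((Fintype.card F + 1) / 2 : ℕ) : ℂ) ∨ χ 1 = (((Fintype.card F - 1) / 2 : ℕ) : ℂ)) ∧
    (5 ≤ Fintype.card F →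
      Nat.card {χ : Cfsg.IrrCharacter SL(2, F) // (χ : SL(2, F) → ℂ) 1 = 1} = 1 ∧
      Nat.card {χ : Cfsg.IrrCharacter SL(2, F) // (χ : SL(2, F) → ℂ) 1 = (Fintype.card F : ℂ)} = 1 ∧
      Nat.card {χ : Cfsg.IrrCharacter SL(2, F) // (χ : SL(2, F) → ℂ) 1 = (Fintype.card F : ℂ) + 1} = (Fintype.card F - 3) / 2 ∧
      Nat.card {χ : Cfsg.IrrCharacter SL(2, F) // (χ : SL(2, F) → ℂ) 1 = (Fintype.card F : ℂ) - 1} = (Fintype.card F - 1) / 2 ∧
      Nat.card {χ : Cfsg.IrrCharacter SL(2, F) // (χ : SL(2, F) → ℂ) 1 = (((Fintype.card F + 1) / 2 : ℕ) : ℂ)} = 2 ∧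
      Nat.card {χ : Cfsg.IrrCharacter SL(2, F) // (χ : SL(2, F) → ℂ) 1 = (((Fintype.card F - 1) / 2 : ℕ) : ℂ)} = 2)) :
    np ℓ SL(2, F) = 1 + (if ℓ ∣ Fintype.card F then 0 else 1) +
      (if ℓ ∣ Fintype.card F + 1 then 0 else (Fintype.card F - 3) / 2) +
      (if ℓ ∣ Fintype.card F - 1 then 0 else (Fintype.card F - 1) / 2) +
      (if ℓ ∣ (Fintype.card F + 1) / 2 then 0 else 2) +
      (if ℓ ∣ (Fintype.card F - 1) / 2 then 0 else 2) := by
  classical
  obtain ⟨hdeg, hcnt⟩ := h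
  obtain ⟨c1, c2, c3, c4, c5, c6⟩ := hcnt h5
  obtain ⟨m, hm⟩ := hodd
  set q := Fintype.card F with hq
  have e1 : (q + 1) / 2 = m + 1 := by omega
  have e2 : (q - 1) / 2 = m := by omega
  have hcast : ((q - 1 : ℕ) : ℂ) = (q : ℂ) - 1 := by
    rw [Nat.cast_sub (by omega), Nat.cast_one]
  let D : Finset ℕ := {1, q, q + 1, q - 1, (q + 1) / 2, (q - 1) / 2}
  have hD : ∀ χ : IrrCharacter SL(2, F), charDegree (χ : SL(2, F) → ℂ) ∈ D := by
    intro χ
    have h1 := hdeg χ χ.2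
    simp only [D, Finset.mem_insert, Finset.mem_singleton]
    rcases h1 with h1 | h1 | h1 | h1 | h1 | h1
    · left; exact charDegree_of_eq (by rw [h1, Nat.cast_one])
    · right; left; exact charDegree_of_eq h1
    · right; right; left; exact charDegree_of_eq (by rw [h1, Nat.cast_add, Nat.cast_one])
    · right; right; right; left; exact charDegree_of_eq (by rw [h1, hcast])
    · right; right; right; right; left; exact charDegree_of_eq h1
    · right; right; right; right; right; exact charDegree_of_eq h1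
  have d1 : cd 1 SL(2, F) = 1 := by
    rw [cd]; simpa using c1
  have d2 : cd q SL(2, F) = 1 := c2
  have d3 : cd (q + 1) SL(2, F) = (q - 3) / 2 := by
    rw [cd]; simpa using c3
  have d4 : cd (q - 1) SL(2, F) = (q - 1) / 2 := by
    rw [cd, hcast]; exact c4
  have d5 : cd ((q + 1) / 2) SL(2, F) = 2 := c5
  have d6 : cd ((q - 1) / 2) SL(2, F) = 2 := c6
  have hsum := np_eq_sum (ℓ := ℓ) D hD
  have n1 : (1 : ℕ) ∉ ({q, q + 1, q - 1, (q + 1) / 2, (q - 1) / 2} : Finset ℕ) := by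
    simp only [Finset.mem_insert, Finset.mem_singleton]; omega
  have n2 : q ∉ ({q + 1, q - 1, (q + 1) / 2, (q - 1) / 2} : Finset ℕ) := by
    simp only [Finset.mem_insert, Finset.mem_singleton]; omega
  have n3 : q + 1 ∉ ({q - 1, (q + 1) / 2, (q - 1) / 2} : Finset ℕ) := by
    simp only [Finset.mem_insert, Finset.mem_singleton]; omega
  have n4 : q - 1 ∉ ({(q + 1) / 2, (q - 1) / 2} : Finset ℕ) := by
    simp only [Finset.mem_insert, Finset.mem_singleton]; omega
  have n5 : (q + 1) / 2 ∉ ({(q - 1) / 2} : Finset ℕ) := by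
    simp only [Finset.mem_singleton]; omega
  rw [hsum, Finset.sum_insert n1, Finset.sum_insert n2, Finset.sum_insert n3, Finset.sum_insert n4,
    Finset.sum_insert n5, Finset.sum_singleton, d1, d2, d3, d4, d5, d6]
  have hl1 : ¬ ℓ ∣ 1 := fun h => hℓ.one_lt.ne' (Nat.dvd_one.1 h)
  rw [if_neg hl1]
  ring

/-- The McKay equality for `SL_2(q)`, `q` odd. -/
theorem main (hodd : Odd (Fintype.card F)) (ℓ : ℕ) [hℓ : Fact ℓ.Prime] (S : Sylow ℓ SL(2, F))
    (h : (∀ χ : SL(2, F) → ℂ, Cfsg.IsIrrCharacter SL(2, F) χ →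
      χ 1 = 1 ∨ χ 1 = (Fintype.card F : ℂ) ∨ χ 1 = (Fintype.card F : ℂ) + 1 ∨ χ 1 = (Fintype.card F : ℂ) - 1 ∨
        χ 1 = (((Fintype.card F + 1) / 2 : ℕ) : ℂ) ∨ χ 1 = (((Fintype.card F - 1) / 2 : ℕ) : ℂ)) ∧
    (5 ≤ Fintype.card F →
      Nat.card {χ : Cfsg.IrrCharacter SL(2, F) // (χ : SL(2, F) → ℂ) 1 = 1} = 1 ∧
      Nat.card {χ : Cfsg.IrrCharacter SL(2, F) // (χ : SL(2, F) → ℂ) 1 = (Fintype.card F : ℂ)} = 1 ∧
      Nat.card {χ : Cfsg.IrrCharacter SL(2, F) // (χ : SL(2, F) → ℂ) 1 = (Fintype.card F : ℂ) + 1} = (Fintype.card F - 3) / 2 ∧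
      Nat.card {χ : Cfsg.IrrCharacter SL(2, F) // (χ : SL(2, F) → ℂ) 1 = (Fintype.card F : ℂ) - 1} = (Fintype.card F - 1) / 2 ∧
      Nat.card {χ : Cfsg.IrrCharacter SL(2, F) // (χ : SL(2, F) → ℂ) 1 = (((Fintype.card F + 1) / 2 : ℕ) : ℂ)} = 2 ∧
      Nat.card {χ : Cfsg.IrrCharacter SL(2, F) // (χ : SL(2, F) → ℂ) 1 = (((Fintype.card F - 1) / 2 : ℕ) : ℂ)} = 2)) :
    np ℓ SL(2, F) = np ℓ ↥(Subgroup.normalizer ((S : Subgroup SL(2, F)) : Set SL(2, F))) := by
  classical
  have hp1 : ℓ.Prime := hℓ.out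
  -- the characteristic
  obtain ⟨p, hchar⟩ := CharP.exists F
  have hpp : p.Prime := by
    rcases CharP.char_is_prime_or_zero F p with h0 | h0
    · exact h0
    · exfalso
      subst h0
      have : CharZero F := CharP.charP_to_charZero F
      exact not_finite F
  have := Fact.mk hpp
  obtain ⟨n, hn⟩ := FiniteField.card F p
  have hp2 : p ≠ 2 := by
    rintro rfl
    rw [hn.2] at hodd
    exact (Nat.not_odd_iff_even.2 ((Nat.even_pow).2 ⟨even_two, n.2.ne'⟩)) hodd
  have h2F : (2 : F) ≠ 0 := by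
    intro h
    have h3 : ((2 : ℕ) : F) = 0 := by exact_mod_cast h
    rw [CharP.cast_eq_zero_iff F p] at h3
    exact hp2 ((Nat.prime_dvd_prime_iff_eq hpp Nat.prime_two).1 h3)
  have hcard := Cfsg.Agent.ClassicalGeometry.PSL2Basic.card_SL2 (F := F)
  have hq1 : 1 < Fintype.card F := Fintype.one_lt_card
  have hcard2 : Nat.card SL(2, F) = Fintype.card F * ((Fintype.card F - 1) * (Fintype.card F + 1)) := by
    rw [hcard]
    congr 1
    obtain ⟨m, hm⟩ : ∃ m, Fintype.card F = m + 1 := ⟨Fintype.card F - 1, by omega⟩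
    rw [hm]
    have : (m + 1) ^ 2 - 1 = m * (m + 2) := by
      have : (m + 1) ^ 2 = m * (m + 2) + 1 := by ring
      omega
    rw [this]
    simp only [Nat.add_sub_cancel]
  by_cases hdvd : ℓ ∣ Nat.card SL(2, F)
  swap
  · -- trivial Sylow subgroup
    have hS : (S : Subgroup SL(2, F)) = ⊥ := by
      rw [← Subgroup.card_eq_one, S.card_eq_multiplicity, Nat.factorization_eq_zero_of_not_dvd hdvd,
        pow_zero]
    have hnorm : (S : Subgroup SL(2, F)).Normal := by rw [hS]; infer_instance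
    exact (np_normalizer_of_normal (S : Subgroup SL(2, F)) ℓ).symm
  -- the field with three elements
  by_cases h3 : Fintype.card F = 3
  · have e : Nonempty (Matrix.SpecialLinearGroup (Fin 2) (ZMod 3) ≃* SL(2, F)) := by
      let e : ZMod 3 ≃+* F := ZMod.ringEquivOfPrime F Nat.prime_three h3
      exact ⟨{ toFun := Matrix.SpecialLinearGroup.map (e : ZMod 3 →+* F)
               invFun := Matrix.SpecialLinearGroup.map (e.symm : F →+* ZMod 3)
               left_inv := fun A => by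
                 ext i j
                 simp
               right_inv := fun A => by
                 ext i j
                 simp
               map_mul' := fun A B => map_mul _ A B }⟩
    obtain ⟨e⟩ := e
    have hp3 : p = 3 := by
      have h4 : p ∣ 3 := by
        rw [← h3, hn.2]; exact dvd_pow_self p n.2.ne'
      exact (Nat.prime_dvd_prime_iff_eq hpp Nat.prime_three).1 h4
    rw [hcard2, h3] at hdvd
    have h24 : ℓ ∣ 2 ^ 3 * 3 := by simpa using hdvd
    rcases (hp1.dvd_mul).1 h24 with h4 | h4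
    · have h5 : ℓ = 2 := (Nat.prime_dvd_prime_iff_eq hp1 Nat.prime_two).1 (hp1.dvd_of_dvd_pow h4)
      subst h5
      rw [np_two p hp2 S, ← np_congr e, np_SL23.1]
    · have h5 : ℓ = 3 := (Nat.prime_dvd_prime_iff_eq hp1 Nat.prime_three).1 h4
      subst h5
      subst hp3
      rw [np_borel hodd 3 S, ← np_congr e, np_SL23.2, h3]
  have h5 : 5 ≤ Fintype.card F := by
    obtain ⟨m, hm⟩ := hodd
    omega
  have hG := np_SL h5 hodd ℓ hp1 h
  obtain ⟨m, hm⟩ := hodd
  by_cases hl2 : ℓ = 2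
  · subst hl2
    rw [hG, np_two p hp2 S]
    have e0 : ¬ 2 ∣ Fintype.card F := by omega
    have e1 : 2 ∣ Fintype.card F + 1 := by omega
    have e2 : 2 ∣ Fintype.card F - 1 := by omega
    rw [if_neg e0, if_pos e1, if_pos e2]
    split_ifs with h6 h7 h7 <;> omega
  by_cases hlp : ℓ = p
  · subst hlp
    have hqd : ℓ ∣ Fintype.card F := by rw [hn.2]; exact dvd_pow_self ℓ n.2.ne'
    have hl1 : ∀ a : ℕ, a ∣ 2 → ¬ ℓ ∣ a := by
      intro a ha h6
      exact hl2 ((Nat.prime_dvd_prime_iff_eq hp1 Nat.prime_two).1 (h6.trans ha))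
    have e1 : ¬ ℓ ∣ Fintype.card F + 1 := by
      intro h6
      apply hl1 1 (one_dvd 2)
      exact (Nat.dvd_add_right hqd).1 h6
    have e2 : ¬ ℓ ∣ Fintype.card F - 1 := by
      intro h6
      apply hl1 1 (one_dvd 2)
      have h7 : Fintype.card F - (Fintype.card F - 1) = 1 := by omega
      rw [← h7]
      exact Nat.dvd_sub hqd h6
    have e3 : ¬ ℓ ∣ (Fintype.card F + 1) / 2 := fun h6 => e1 (h6.trans (Nat.div_dvd_of_dvd (by omega)))
    have e4 : ¬ ℓ ∣ (Fintype.card F - 1) / 2 := fun h6 => e2 (h6.trans (Nat.div_dvd_of_dvd (by omega)))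
    rw [hG, np_borel ⟨m, hm⟩ ℓ S, if_pos hqd, if_neg e1, if_neg e2, if_neg e3, if_neg e4]
    omega
  -- ℓ odd, dividing q - 1 or q + 1
  have hlq : ¬ ℓ ∣ Fintype.card F := by
    intro h6
    rw [hn.2] at h6
    exact hlp ((Nat.prime_dvd_prime_iff_eq hp1 hpp).1 (hp1.dvd_of_dvd_pow h6))
  have hhalf : ∀ a : ℕ, 2 ∣ a → ℓ ∣ a → ℓ ∣ a / 2 := by
    rintro a ⟨b, rfl⟩ h6
    rw [Nat.mul_div_cancel_left _ (by norm_num)]
    rcases (hp1.dvd_mul).1 h6 with h7 | h7
    · exact absurd ((Nat.prime_dvd_prime_iff_eq hp1 Nat.prime_two).1 h7) hl2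
    · exact h7
  have hnot2 : ¬ ℓ ∣ 2 := fun h6 => hl2 ((Nat.prime_dvd_prime_iff_eq hp1 Nat.prime_two).1 h6)
  rw [hcard2] at hdvd
  rcases (hp1.dvd_mul).1 ((hp1.dvd_mul.1 hdvd).resolve_left hlq) with h6 | h6
  · -- the split torus
    have hnp : ¬ ℓ ∣ Fintype.card F + 1 := by
      intro h7
      apply hnot2
      have h8 : Fintype.card F + 1 - (Fintype.card F - 1) = 2 := by omega
      rw [← h8]
      exact Nat.dvd_sub h7 h6
    have hcT : Nat.card (split F) = 2 * ((m - 2) + 2) := by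
      rw [card_split]; omega
    have hidx : ¬ ℓ ∣ (split F).index := by
      have h7 := Subgroup.card_mul_index (split F)
      rw [card_split, hcard2, mul_left_comm] at h7
      have h8 : (split F).index = Fintype.card F * (Fintype.card F + 1) :=
        Nat.eq_of_mul_eq_mul_left (by omega) h7
      rw [h8, hp1.dvd_mul]
      rintro (h9 | h9)
      · exact hlq h9
      · exact hnp h9
    have hNp := np_torus (split_data h2F) hl2 (m - 2) hcT (by rw [card_split]; exact h6) hidx S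
    have e1 : ℓ ∣ (Fintype.card F - 1) / 2 := hhalf _ (by omega) h6
    have e2 : ¬ ℓ ∣ (Fintype.card F + 1) / 2 := fun h7 => hnp (h7.trans (Nat.div_dvd_of_dvd (by omega)))
    rw [hG, hNp, if_neg hlq, if_neg hnp, if_pos h6, if_neg e2, if_pos e1]
    omega
  · -- the non-split torus
    have hnm : ¬ ℓ ∣ Fintype.card F - 1 := by
      intro h7
      apply hnot2
      have h8 : Fintype.card F + 1 - (Fintype.card F - 1) = 2 := by omega
      rw [← h8]
      exact Nat.dvd_sub h6 h7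
    obtain ⟨a, s, ha, H, -⟩ := exists_nonsplit (F := F) ⟨m, hm⟩
    have hca : Nat.card (Subgroup.zpowers a) = Fintype.card F + 1 := by
      rw [Nat.card_zpowers, ha]
    have hcT : Nat.card (Subgroup.zpowers a) = 2 * ((m - 1) + 2) := by
      rw [hca]; omega
    have hidx : ¬ ℓ ∣ (Subgroup.zpowers a).index := by
      have h7 := Subgroup.card_mul_index (Subgroup.zpowers a)
      rw [hca, hcard2] at h7
      have h8 : (Subgroup.zpowers a).index = Fintype.card F * (Fintype.card F - 1) := by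
        apply Nat.eq_of_mul_eq_mul_left (show 0 < Fintype.card F + 1 by omega)
        rw [h7]; ring
      rw [h8, hp1.dvd_mul]
      rintro (h9 | h9)
      · exact hlq h9
      · exact hnm h9
    have hNp := np_torus H hl2 (m - 1) hcT (by rw [hca]; exact h6) hidx S
    have e1 : ℓ ∣ (Fintype.card F + 1) / 2 := hhalf _ (by omega) h6
    have e2 : ¬ ℓ ∣ (Fintype.card F - 1) / 2 := fun h7 => hnm (h7.trans (Nat.div_dvd_of_dvd (by omega)))
    rw [hG, hNp, if_neg hlq, if_pos h6, if_neg hnm, if_pos e1, if_neg e2]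
    omega

end Cfsg.Agent.H142.McKayMain
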