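import Cfsg.Agent.H140.SLTwo
import Cfsg.Agent.H142.McKayCount
import Cfsg.Agent.H142.SLTwoBlocks
import Cfsg.Agent.S2437

/-!
# Characters of degree prime to `ℓ` of the Sylow normalisers of `SL_2(q)`, `q` odd: `ℓ` odd

* `np_borel`: `ℓ = p`.
* `np_torus`: `ℓ` odd dividing `q - 1` or `q + 1`.
-/

set_option autoImplicit false
open Cfsg

namespace Cfsg.Agent.H142.McKayN

open scoped MatrixGroups
open Cfsg.Agent.H140.SLTwo Cfsg.Agent.H140.Tori Cfsg.Agent.H142.McKayCount

variable {F : Type*} [Field F]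

variable (F) in
/-- The upper unitriangular subgroup. -/
def U : Subgroup SL(2, F) where
  carrier := {g | g.1 1 0 = 0 ∧ g.1 0 0 = 1}
  mul_mem' := by
    rintro a b ⟨ha, ha'⟩ ⟨hb, hb'⟩
    refine ⟨?_, ?_⟩
    · rw [mul10, ha, hb]; ring
    · rw [mul00, ha', hb', hb]; ring
  one_mem' := ⟨one10, one00⟩
  inv_mem' := by
    rintro a ⟨ha, ha'⟩
    have h := det_eq a
    rw [ha, ha', one_mul, mul_zero, sub_zero] at h
    exact ⟨by rw [inv10, ha, neg_zero], by rw [inv00, h]⟩

theorem mem_U {g : SL(2, F)} : g ∈ U F ↔ g.1 1 0 = 0 ∧ g.1 0 0 = 1 := Iff.rfl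

theorem U11 {g : SL(2, F)} (hg : g ∈ U F) : g.1 1 1 = 1 := by
  have h := det_eq g
  rw [hg.1, hg.2, one_mul, mul_zero, sub_zero] at h
  exact h

variable (F) in
/-- `U` is a copy of the additive group. -/
def UEquiv : U F ≃ F where
  toFun g := g.1.1 0 1
  invFun a := ⟨mk 1 a 0 1 (by ring), rfl, rfl⟩
  left_inv g := by
    apply Subtype.ext
    apply ext4
    · exact g.2.2.symm
    · rfl
    · exact g.2.1.symm
    · exact (U11 g.2).symm
  right_inv a := rfl

theorem card_U [Fintype F] : Nat.card (U F) = Fintype.card F := by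
  rw [Nat.card_congr (UEquiv F), Nat.card_eq_fintype_card]

theorem U_comm {a b : SL(2, F)} (ha : a ∈ U F) (hb : b ∈ U F) : a * b = b * a := by
  apply ext4
  · rw [mul00, mul00, ha.1, hb.1, ha.2, hb.2]; ring
  · rw [mul01, mul01, ha.2, hb.2, U11 ha, U11 hb]; ring
  · rw [mul10, mul10, ha.1, hb.1]; ring
  · rw [mul11, mul11, ha.1, hb.1, U11 ha, U11 hb]; ring

variable (F) in
/-- The Borel subgroup. -/
abbrev B : Subgroup SL(2, F) := (Cfsg.upperTriangularGL 2 F).comap Matrix.SpecialLinearGroup.toGL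

theorem mem_B {g : SL(2, F)} : g ∈ B F ↔ g.1 1 0 = 0 := by
  constructor
  · intro h; exact Cfsg.Agent.S2437.mem_borel h
  · intro h
    rw [Subgroup.mem_comap]
    change ((Matrix.SpecialLinearGroup.toGL g : GL (Fin 2) F) : Matrix (Fin 2) (Fin 2) F).BlockTriangular id
    intro i j hij
    fin_cases i <;> fin_cases j
    · exact absurd hij (by decide)
    · exact absurd hij (by decide)
    · exact h
    · exact absurd hij (by decide)

theorem conj_mem_U {g u : SL(2, F)} (hg : g.1 1 0 = 0) (hu : u ∈ U F) : g * u * g⁻¹ ∈ U F := by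
  have h := det_eq g
  rw [hg, mul_zero, sub_zero] at h
  constructor
  · rw [mul10, mul10, mul11, inv00, inv10, hg, hu.1, U11 hu]; ring
  · rw [mul00, mul00, mul01, inv00, inv10, hg, hu.1, hu.2, U11 hu]
    linear_combination h

theorem normalizer_U : Subgroup.normalizer ((U F : Subgroup SL(2, F)) : Set SL(2, F)) = B F := by
  ext g
  rw [mem_B]
  constructor
  · intro hg
    rw [Subgroup.mem_normalizer_iff] at hg
    have h1 := (hg (mk 1 1 0 1 (by ring))).1 ⟨rfl, rfl⟩
    have h2 := h1.1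
    rw [mul10, mul10, mul11, inv00, inv10, mk00, mk01, mk10, mk11] at h2
    have h3 : g.1 1 0 * g.1 1 0 = 0 := by linear_combination -h2
    exact mul_self_eq_zero.1 h3
  · intro hg
    rw [Subgroup.mem_normalizer_iff]
    intro u
    constructor
    · exact conj_mem_U hg
    · intro hu
      have h2 := conj_mem_U (g := g⁻¹) (by rw [inv10, hg, neg_zero]) hu
      have e : g⁻¹ * (g * u * g⁻¹) * g⁻¹⁻¹ = u := by group
      rwa [e] at h2

variable [Fintype F]

/-- The normaliser of a Sylow `p`-subgroup, `p` the characteristic. -/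
theorem np_borel (hodd : Odd (Fintype.card F)) (p : ℕ) [Fact p.Prime] [CharP F p]
    (S : Sylow p SL(2, F)) :
    np p ↥(Subgroup.normalizer ((S : Subgroup SL(2, F)) : Set SL(2, F))) = Fintype.card F + 3 := by
  classical
  have hp : p.Prime := Fact.out
  obtain ⟨hq, m, hm, hcard⟩ := SLTwoBlocks.factorization_card (F := F) p
  have hUp : IsPGroup p (U F) := by
    apply IsPGroup.of_card (n := (Nat.card SL(2, F)).factorization p)
    rw [card_U, hq]
  let P : Sylow p SL(2, F) := Sylow.ofCard (U F) (by rw [card_U, hq])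
  have hP : ((P : Subgroup SL(2, F)) : Set SL(2, F)) = (U F : Set SL(2, F)) := rfl
  rw [np_normalizer_sylow S P p, hP, normalizer_U]
  have hUB : U F ≤ B F := fun g hg => mem_B.2 hg.1
  have hn : ((U F).subgroupOf (B F)).Normal := by
    constructor
    intro u hu g
    rw [Subgroup.mem_subgroupOf] at hu ⊢
    exact conj_mem_U (mem_B.1 g.2) hu
  have hcB : Nat.card (B F) = (Fintype.card F - 1) * Fintype.card F := by
    rw [Nat.card_congr (Cfsg.Agent.S2437.bequiv F), Nat.card_prod, Nat.card_eq_fintype_card,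
      Nat.card_eq_fintype_card, Fintype.card_units]
  have hcU : Nat.card ((U F).subgroupOf (B F)) = Fintype.card F := by
    rw [Nat.card_congr (Subgroup.subgroupOfEquivOfLe hUB).toEquiv, card_U]
  have hidx : ((U F).subgroupOf (B F)).index = Fintype.card F - 1 := by
    have h1 := Subgroup.card_mul_index ((U F).subgroupOf (B F))
    rw [hcU, hcB, mul_comm] at h1
    exact Nat.eq_of_mul_eq_mul_right Fintype.card_pos h1
  rw [np_eq_card_conjClasses ((U F).subgroupOf (B F)) ?_ ?_]
  · exact Cfsg.Agent.S2437.result hodd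
  · intro a ha b hb
    apply Subtype.ext
    exact U_comm ha hb
  · rw [hidx]
    intro h
    obtain ⟨k, hk⟩ := FiniteField.card F p
    have h3 : p ∣ Fintype.card F := by
      rw [hk.2]
      exact dvd_pow_self p k.2.ne'
    have h4 : p ∣ 1 := by
      have h5 : Fintype.card F - (Fintype.card F - 1) = 1 := by
        have := Fintype.card_pos (α := F)
        omega
      rw [← h5]
      exact Nat.dvd_sub h3 h
    exact hp.one_lt.ne' (Nat.dvd_one.1 h4)

/-- The normaliser of a Sylow `ℓ`-subgroup contained in a torus. -/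
theorem np_torus {G : Type*} [Group G] [Finite G] {T : Subgroup G} {s z : G} (H : TorusData T s z)
    {ℓ : ℕ} [Fact ℓ.Prime] (hℓ : ℓ ≠ 2) (k : ℕ) (hT : Nat.card T = 2 * (k + 2))
    (hdvd : ℓ ∣ Nat.card T) (hidx : ¬ ℓ ∣ T.index) (S : Sylow ℓ G) :
    np ℓ ↥(Subgroup.normalizer ((S : Subgroup G) : Set G)) = k + 5 := by
  classical
  have hp : ℓ.Prime := Fact.out
  -- a Sylow subgroup inside T
  obtain ⟨Q⟩ : Nonempty (Sylow ℓ T) := inferInstance
  have hQcard : Nat.card ((Q : Subgroup T).map T.subtype) = ℓ ^ (Nat.card G).factorization ℓ := by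
    rw [Nat.card_congr ((Q : Subgroup T).equivMapOfInjective T.subtype T.subtype_injective).symm.toEquiv,
      Q.card_eq_multiplicity]
    congr 1
    have h1 := Subgroup.card_mul_index T
    rw [← h1, Nat.factorization_mul Nat.card_pos.ne' Subgroup.index_ne_zero_of_finite, Finsupp.add_apply,
      Nat.factorization_eq_zero_of_not_dvd hidx, add_zero]
  let P : Sylow ℓ G := Sylow.ofCard ((Q : Subgroup T).map T.subtype) hQcard
  rw [np_normalizer_sylow S P ℓ]
  have hPT : (P : Subgroup G) ≤ T := by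
    rintro x ⟨y, -, rfl⟩
    exact y.2
  have hdvdG : ℓ ∣ Nat.card G := hdvd.trans (Subgroup.card_subgroup_dvd_card T)
  obtain ⟨t, ht, ht1, htz⟩ : ∃ t ∈ (P : Subgroup G), t ≠ 1 ∧ t ≠ z := by
    have h1 : 1 < Nat.card P := by
      rw [P.card_eq_multiplicity]
      exact Nat.one_lt_pow (hp.factorization_pos_of_dvd Nat.card_pos.ne' hdvdG).ne' hp.one_lt
    rw [Finite.one_lt_card_iff_nontrivial] at h1
    obtain ⟨⟨t, ht⟩, hne⟩ := exists_ne (1 : P)
    refine ⟨t, ht, fun h => hne (Subtype.ext h), ?_⟩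
    rintro rfl
    obtain ⟨j, hj⟩ := P.2 ⟨t, ht⟩
    have h2 : t ^ ℓ ^ j = 1 := congrArg Subtype.val hj
    have h3 : orderOf t ∣ ℓ ^ j := orderOf_dvd_of_pow_eq_one h2
    have h4 : orderOf t = 2 := orderOf_eq_prime (by rw [pow_two]; exact H.zz) H.zne
    rw [h4] at h3
    exact hℓ ((Nat.prime_dvd_prime_iff_eq Nat.prime_two hp).1 (Nat.prime_two.dvd_of_dvd_pow h3)).symm
  have hN := fun g => H.mem_normalizer_iff hPT ht ht1 htz g
  set N := Subgroup.normalizer ((P : Subgroup G) : Set G) with hNdef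
  have hTN : T ≤ N := fun g hg => (hN g).mpr (Or.inl hg)
  have hcN := H.card_eq N hN
  have hTn : (T.subgroupOf N).index = 2 := by
    have h1 := Subgroup.card_mul_index (T.subgroupOf N)
    rw [Nat.card_congr (Subgroup.subgroupOfEquivOfLe hTN).toEquiv, hcN, mul_comm 2] at h1
    exact Nat.eq_of_mul_eq_mul_left Nat.card_pos h1
  have hnorm : (T.subgroupOf N).Normal := Subgroup.normal_of_index_eq_two hTn
  rw [np_eq_card_conjClasses (T.subgroupOf N) ?_ ?_]
  · exact H.card_conjClasses N hN k hT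
  · intro a ha b hb
    apply Subtype.ext
    exact H.comm _ ha _ hb
  · rw [hTn]
    intro h
    exact hℓ ((Nat.prime_dvd_prime_iff_eq hp Nat.prime_two).1 h)

end Cfsg.Agent.H142.McKayN
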