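import Cfsg.Agent.H142.GmnE6
import Cfsg.Agent.H952.On.Table

/-!
# S3855, the rows of `E₆(q)`, `q` of order `≠ 3` modulo `p`

* `ev_split` : the split torus;
* `ev_of_pow` : elements of order `p` conjugate to their `m`-th powers, `m` of even order modulo `p`;
* `e6_a`.
-/

set_option autoImplicit false
set_option linter.unusedSectionVars false

namespace Cfsg.Agent.H142.OnE6a

open CoxeterSystem Subgroup Cfsg Cfsg.Lie Cfsg.Lie.ChevalleyDatum
open Cfsg.Agent.ChevalleyStructure Cfsg.Agent.ChevalleyStructure.Elts Cfsg.Agent.ChevalleyStructure.CoxeterGeom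
  Cfsg.Agent.ChevalleyStructure.CoxeterGeomTypes Cfsg.Agent.ChevalleyStructure.NPerm
open Cfsg.Agent.Tits.Roots Cfsg.Agent.Tits.Core Cfsg.Agent.Nodes Cfsg.Agent.Nodes.Reps Cfsg.Agent.Nodes.BNOf
  Cfsg.Agent.Nodes.RGDChev Cfsg.Agent.Nodes.Bruhat
open Cfsg.Agent.KFacts.RgdField Cfsg.Agent.KFacts.RgdChevCoord Cfsg.Agent.KFacts.RgdRigid Cfsg.Agent.KFacts.RgdDiag
open Cfsg.Agent.BpExc Cfsg.Agent.BpExc.TorCent Cfsg.Agent.BpExc.TorChev
open Cfsg.Agent.BpExc.FamFrame Cfsg.Agent.BpExc.RowsUntw Cfsg.Agent.BpExc.FamInst Cfsg.Agent.BpExc.FamUntw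
open Cfsg.Agent.H696.GmnUntw Cfsg.Agent.H142.GmnSplit Cfsg.Agent.H142.GmnE6 Cfsg.Agent.H467.OddNorm

section Split

variable {I W Y : Type*} [Fintype I] [DecidableEq I] [Group W] [Group Y] {M : CoxeterMatrix I}
  {cs : CoxeterSystem M W} {A : I → I → ℤ} {h : IsCartan M A} {r : ℕ} {T : Subgroup Y} {n : I → Y}
  {X : (I → ℤ) → Subgroup Y} (R : RGD cs h r T n X)

include R in
/-- **The split torus.** -/
theorem ev_split [Finite W] [Finite Y] [Fact r.Prime] [Nonempty I] {p : ℕ} [hp : Fact p.Prime] (hp2 : p ≠ 2)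
    (hG1 : RGD.Sup X {x | IsRoot cs h x} = ⊤) (hZ : Subgroup.center Y = ⊥)
    (hl : ∀ i j, i ≠ j → M i j = 2 ∨ M i j = 3) (hidx : ¬ p ∣ (NN cs R.nsys).index) : Ev p Y := by
  obtain ⟨i⟩ : Nonempty I := inferInstance
  have F := fr_rp R (rp_simple cs R.nsys i)
  refine Ev.of_hom hp2 hZ (M := FrG cs h T X) (fun hd => hidx (hd.trans (index_dvd R (KFacts.RgdRigid.GG_eq_top (T := T) hG1) hl))) (dt R) (s := n i)
    ⟨_, F⟩ fun h1 => ?_
  have h2 := dt_rp R (α := ⟨MulAut.conj (n i), _, F⟩) F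
  rw [det_simple, h1] at h2
  norm_num at h2

end Split

section Pow

variable {S : Type*} [Group S]

/-- iterating the conjugation -/
theorem isConj_iter {z : S} {m : ℕ} (h : ∀ x : S, x ∈ zpowers z → IsConj x (x ^ m)) (j : ℕ) : IsConj z (z ^ m ^ j) := by
  induction j with
  | zero => rw [pow_zero, pow_one]
  | succ j ih =>
    rw [pow_succ, pow_mul]
    exact ih.trans (h _ (pow_mem (mem_zpowers z) _))

theorem ev_of_pow [Finite S] {p : ℕ} [hp : Fact p.Prime] (hp2 : p ≠ 2) (hZ : center S = ⊥) (hd : p ∣ Nat.card S)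
    {m : ℕ} (hm : Even (orderOf (m : ZMod p))) (hm0 : ¬ p ∣ m) (h : ∀ z : S, z ^ p = 1 → IsConj z (z ^ m)) : Ev p S := by
  refine Ev.of_real hp2 hZ hd fun z hz _ => ?_
  obtain ⟨j, hj⟩ := hm
  have h1 : IsConj z (z ^ m ^ j) := isConj_iter (fun x hx => h x (by
    obtain ⟨i, rfl⟩ := mem_zpowers_iff.1 hx
    rw [← zpow_natCast, ← zpow_mul, mul_comm, zpow_mul, zpow_natCast, ← hz, pow_orderOf_eq_one, one_zpow])) j
  have hm1 : (m : ZMod p) ≠ 0 := by
    rw [Ne, ZMod.natCast_eq_zero_iff]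
    exact hm0
  have hj0 : j ≠ 0 := by
    rintro rfl
    have h2 : 0 < orderOf (m : ZMod p) := by
      have h3 : orderOf (Units.mk0 (m : ZMod p) hm1) = orderOf (m : ZMod p) := by
        rw [← orderOf_units, Units.val_mk0]
      rw [← h3]
      exact orderOf_pos _
    omega
  have h2 : (m : ZMod p) ^ j = -1 := by
    have h3 : ((m : ZMod p) ^ j) ^ 2 = 1 := by
      rw [← pow_mul, mul_two, ← hj, pow_orderOf_eq_one]
    rcases sq_eq_one_iff.1 h3 with h4 | h4
    · exfalso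
      have h5 := orderOf_dvd_of_pow_eq_one h4
      have h6 := Nat.le_of_dvd (Nat.pos_of_ne_zero hj0) h5
      omega
    · exact h4
  have h3 : z ^ m ^ j = z⁻¹ := by
    rw [eq_inv_iff_mul_eq_one, ← pow_succ, ← orderOf_dvd_iff_pow_eq_one, hz, ← ZMod.natCast_eq_zero_iff]
    push_cast
    rw [h2]
    ring
  rw [h3] at h1
  obtain ⟨g, hg⟩ := isConj_iff.1 h1
  exact ⟨g, hg⟩

end Pow

section E6

variable {p : ℕ} [hpp : Fact p.Prime]

/-- the multiplicative order of `q` modulo `p`, when `p` divides the order of `E₆(q)` -/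
theorem order_E6 {q g N : ℕ} (hq : 1 < q) (hpq : ¬ p ∣ q)
    (h2 : g * N = q ^ 36 * (q ^ 2 - 1) * (q ^ 5 - 1) * (q ^ 6 - 1) * (q ^ 8 - 1) * (q ^ 9 - 1) * (q ^ 12 - 1))
    (hd : p ∣ N) : ∃ e ∈ [2, 5, 6, 8, 9, 12], orderOf (q : ZMod p) ∣ e := by
  have h3 : p ∣ q ^ 36 * (q ^ 2 - 1) * (q ^ 5 - 1) * (q ^ 6 - 1) * (q ^ 8 - 1) * (q ^ 9 - 1) * (q ^ 12 - 1) := by
    rw [← h2]
    exact hd.mul_left g
  have h4 : ∀ e, p ∣ q ^ e - 1 → orderOf (q : ZMod p) ∣ e := by
    intro e he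
    rw [orderOf_dvd_iff_pow_eq_one]
    have h5 := (ZMod.natCast_eq_zero_iff (q ^ e - 1) p).2 he
    rw [Nat.cast_sub (Nat.one_le_pow _ _ (by omega))] at h5
    push_cast at h5
    exact sub_eq_zero.1 h5
  simp only [hpp.out.dvd_mul] at h3
  rcases h3 with (((((h3 | h3) | h3) | h3) | h3) | h3) | h3
  · exact absurd (hpp.out.dvd_of_dvd_pow h3) hpq
  · exact ⟨2, by simp, h4 2 h3⟩
  · exact ⟨5, by simp, h4 5 h3⟩
  · exact ⟨6, by simp, h4 6 h3⟩
  · exact ⟨8, by simp, h4 8 h3⟩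
  · exact ⟨9, by simp, h4 9 h3⟩
  · exact ⟨12, by simp, h4 12 h3⟩

theorem weyl_prod {e : ℕ} (he : 5 ≤ e) (hed : e ∣ p - 1) : ¬ p ∣ [2, 5, 6, 8, 9, 12].prod := by
  intro h4
  have h5 : p ∣ 2 ^ 7 * 3 ^ 4 * 5 := by
    have : [2, 5, 6, 8, 9, 12].prod = 2 ^ 7 * 3 ^ 4 * 5 := by decide
    rwa [this] at h4
  have hp := hpp.out.two_le
  have h6 : 6 ≤ p := by
    have := Nat.le_of_dvd (by omega) hed
    omega
  rcases (Nat.Prime.dvd_mul hpp.out).1 h5 with h6 | h6
  · rcases (Nat.Prime.dvd_mul hpp.out).1 h6 with h7 | h7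
    · have := Nat.le_of_dvd (by decide) (hpp.out.dvd_of_dvd_pow h7)
      omega
    · have := Nat.le_of_dvd (by decide) (hpp.out.dvd_of_dvd_pow h7)
      omega
  · have := Nat.le_of_dvd (by decide) h6
    omega

theorem order_dvd_sub {q : ℕ} (hpq : ¬ p ∣ q) : orderOf (q : ZMod p) ∣ p - 1 := by
  refine orderOf_dvd_of_pow_eq_one (ZMod.pow_card_sub_one_eq_one ?_)
  rw [Ne, ZMod.natCast_eq_zero_iff]
  exact hpq

/-- the order of `q ^ 3` modulo `p` is even when that of `q` is -/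
theorem even_cube {x : ZMod p} (h : Even (orderOf x)) (h0 : x ≠ 0) : Even (orderOf (x ^ 3)) := by
  have hpos : 0 < orderOf x := by
    rw [show x = ((Units.mk0 x h0 : (ZMod p)ˣ) : ZMod p) from rfl, orderOf_units]
    exact orderOf_pos _
  by_contra hodd
  rw [Nat.not_even_iff_odd] at hodd
  have h1 : orderOf x ∣ 3 * orderOf (x ^ 3) := by
    rw [orderOf_dvd_iff_pow_eq_one, pow_mul, pow_orderOf_eq_one]
  have h2 : Odd (3 * orderOf (x ^ 3)) := (by decide : Odd 3).mul hodd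
  exact (Nat.not_even_iff_odd.2 (h2.of_dvd_nat h1)) h

theorem e6_a (hp2 : p ≠ 2) (F : Type) [Field F] [Fintype F] (hF : (p : F) ≠ 0)
    (h3 : orderOf ((Fintype.card F : ℕ) : ZMod p) ≠ 3) (hd : p ∣ Nat.card ↥(Lie.chevE6.group F)) :
    Row p ↥(Lie.chevE6.group F) := by
  classical
  obtain ⟨r, hr⟩ := CharP.exists F
  have hrp : Fact r.Prime := ⟨CharP.char_is_prime F r⟩
  have hpr : p ≠ r := by
    rintro rfl
    exact hF (CharP.cast_eq_zero F p)
  have hsimple : IsSimpleGroup ↥(chevE6.group F) ∧ ¬ IsMulCommutative ↥(chevE6.group F) :=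
    S1054.result chevE6 (by simp)
  have hZ := center_eq_bot_of_simple hsimple
  obtain ⟨q, hq⟩ : ∃ q, Fintype.card F = q := ⟨_, rfl⟩
  rw [hq] at h3
  have hq1 : 1 < q := hq ▸ Fintype.one_lt_card
  have hpq : ¬ p ∣ q := by
    intro h1
    obtain ⟨m, hrp', hm⟩ := FiniteField.card F r
    rw [← hq, hm] at h1
    exact hpr ((Nat.prime_dvd_prime_iff_eq hpp.out hrp').1 (hpp.out.dvd_of_dvd_pow h1))
  have hq0 : (q : ZMod p) ≠ 0 := by
    rw [Ne, ZMod.natCast_eq_zero_iff]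
    exact hpq
  have hcard := S1063.result hq
  by_cases h1 : p ∣ q - 1
  · -- the split torus
    have hW := finite_W e6T (CoxeterMatrix.E₆).toCoxeterSystem
    have R := rgd (K := F) e6T (CoxeterMatrix.E₆).toCoxeterSystem r
    have hG1 : RGD.Sup (XX chevE6 6 F) {x | IsRoot (CoxeterMatrix.E₆).toCoxeterSystem e6T.isCartan x} = ⊤ :=
      G1_eq_top e6T (CoxeterMatrix.E₆).toCoxeterSystem
    have hT : Nat.card ↥(TT chevE6 F) = Nat.card ↥(chevE6.diagonalSubgroup F) :=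
      Nat.card_congr (subgroupOfEquivOfLe (diagonal_le_group e6T.inList F)).toEquiv
    refine Row.ev (ev_split R hp2 hG1 hZ laced_E6 ?_)
    have h2 : Nat.card CoxeterMatrix.E₆.Group = 51840 := S1093.result ⟨⟨6, CoxeterMatrix.E₆⟩, 51840⟩ (by simp)
    have h4 := S1035.result hq (chevE6, Nat.gcd 3 (q - 1)) (by simp)
    refine not_dvd_idx hp2 hq1 h1 ?_ hcard h4
    rw [← h2, ← hT, ← card_NN R, Subgroup.index_mul_card]
  obtain ⟨e, he, hqe⟩ := order_E6 hq1 hpq hcard hd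
  by_cases hev : Even (orderOf (q : ZMod p))
  · refine Row.ev (ev_of_pow hp2 hZ hd (m := q ^ 3) ?_ (fun h => hpq (hpp.out.dvd_of_dvd_pow h)) fun z hz => ?_)
    · push_cast
      exact even_cube hev hq0
    · have h4 := isConj_pow (F := F) e6T inv_E6 three_ne_zero
        (center_eq_bot_of_simple (S1054.result chevE6 (by simp))) (r := r) hpp.out hpr hz
      rwa [hq] at h4
  -- cyclic Sylow subgroups
  rw [Nat.not_even_iff_odd] at hev
  have ho1 : orderOf (q : ZMod p) ≠ 1 := by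
    rw [Ne, orderOf_eq_one_iff]
    intro h4
    apply h1
    rw [← ZMod.natCast_eq_zero_iff, Nat.cast_sub (by omega)]
    push_cast
    rw [h4, sub_self]
  have ho : orderOf (q : ZMod p) = 5 ∨ orderOf (q : ZMod p) = 9 := by
    have h5 : orderOf (q : ZMod p) ≤ 12 := by
      refine (Nat.le_of_dvd ?_ hqe).trans ?_ <;> (simp only [List.mem_cons, List.not_mem_nil, or_false] at he; omega)
    simp only [List.mem_cons, List.not_mem_nil, or_false] at he
    generalize orderOf (q : ZMod p) = o at *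
    rcases he with rfl | rfl | rfl | rfl | rfl | rfl <;> interval_cases o <;> revert h3 hev ho1 hqe <;> decide
  have hoe := order_dvd_sub (p := p) hpq
  have hW : ¬ p ∣ [2, 5, 6, 8, 9, 12].prod := by
    rcases ho with h | h <;> rw [h] at hoe
    · exact weyl_prod (by decide) hoe
    · exact weyl_prod (by decide) hoe
  refine Row.cyclic fun Q => ?_
  obtain ⟨f⟩ := S2378.result hq (chevE6, [2, 5, 6, 8, 9, 12]) (by simp) p hpq hW hd Q
  have hlen : ([2, 5, 6, 8, 9, 12].filter (fun e => orderOf (q : ZMod p) ∣ e)).length = 1 := by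
    rcases ho with h | h <;> rw [h] <;> rfl
  have hfin : Unique (Fin ([2, 5, 6, 8, 9, 12].filter (fun e => orderOf (q : ZMod p) ∣ e)).length) := by
    rw [hlen]
    infer_instance
  let f2 := f.trans (MulEquiv.piUnique _)
  exact isCyclic_of_surjective f2.symm.toMonoidHom f2.symm.surjective

end E6

end Cfsg.Agent.H142.OnE6a
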