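import Cfsg.Agent.H142.OnField
import Cfsg.Agent.H142.OnE6a
import Cfsg.Agent.H967.FaChev
import Cfsg.Agent.H720.RowsSix

/-!
# S3855, the row of `E₆(q)`, `q` of order `3` modulo `p`
-/

set_option autoImplicit false
set_option linter.unusedSectionVars false

namespace Cfsg.Agent.H142.OnE6b

open Subgroup Cfsg Cfsg.Lie Cfsg.Agent.H467.OddNorm Cfsg.Agent.H967.CopMat Cfsg.Agent.H967.CopChev
  Cfsg.Agent.H722.RealP Cfsg.Agent.H142.OnE6a Cfsg.Agent.H142.OnField

section Num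

variable {p : ℕ} [hpp : Fact p.Prime]

theorem prime_of_order {q d : ℕ} (hd : d ≠ 0) (he : orderOf (q : ZMod p) = d) : ¬ p ∣ q ∧ d ∣ p - 1 := by
  have hpq : ¬ p ∣ q := by
    intro h
    have h0 := (ZMod.natCast_eq_zero_iff q p).2 h
    have h1 := pow_orderOf_eq_one (q : ZMod p)
    rw [he, h0, zero_pow hd] at h1
    exact zero_ne_one h1
  exact ⟨hpq, he ▸ order_dvd_sub hpq⟩

/-- the fixed field of an automorphism of `p`-power order -/
theorem card_fixed {F : Type*} [Field F] [Fintype F] (σ : F ≃+* F) {k : ℕ} (hσ : orderOf σ = p ^ k) :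
    ((Nat.card ↥(Fx σ) : ℕ) : ZMod p) = ((Fintype.card F : ℕ) : ZMod p) := by
  rw [← Nat.card_eq_fintype_card, card_Fx σ, hσ]
  push_cast
  rw [ZMod.pow_card_pow]

end Num

/-- the Sylow `p`-subgroups are abelian -/
theorem abelian_E6 {F : Type} [Field F] [Fintype F] {p q : ℕ} [hpp : Fact p.Prime] (hq : Fintype.card F = q)
    (hpq : ¬ p ∣ q) (hW : ¬ p ∣ [2, 5, 6, 8, 9, 12].prod) (hd : p ∣ Nat.card ↥(chevE6.group F))
    (P : Sylow p ↥(chevE6.group F)) : ∀ x ∈ P, ∀ y ∈ P, x * y = y * x := by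
  intro x hx y hy
  obtain ⟨e⟩ := S2378.result hq (chevE6, [2, 5, 6, 8, 9, 12]) (by simp) p hpq hW hd P
  have h4 : (⟨x, hx⟩ : ↥(P : Subgroup ↥(chevE6.group F))) * ⟨y, hy⟩ = ⟨y, hy⟩ * ⟨x, hx⟩ := by
    apply e.injective
    rw [map_mul, map_mul]
    exact mul_comm _ _
  exact congrArg Subtype.val h4

theorem dvd_card_E6 {F : Type*} [Field F] [Fintype F] {p : ℕ} [hpp : Fact p.Prime]
    (he : orderOf ((Fintype.card F : ℕ) : ZMod p) = 3) : p ∣ Nat.card ↥(chevE6.group F) := by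
  obtain ⟨q, hq⟩ : ∃ q, Fintype.card F = q := ⟨_, rfl⟩
  rw [hq] at he
  obtain ⟨hpq, h3p⟩ := prime_of_order (by decide) he
  have hcard := S1063.result hq
  have hq0 : 0 < q := hq ▸ Fintype.card_pos
  have h1 : p ∣ q ^ 9 - 1 := by
    rw [← ZMod.natCast_eq_zero_iff, Nat.cast_sub (Nat.one_le_pow _ _ hq0)]
    push_cast
    rw [show 9 = 3 * 3 by norm_num, pow_mul, ← he, pow_orderOf_eq_one, one_pow, sub_self]
  have h2 : p ∣ Nat.gcd 3 (q - 1) * Nat.card ↥(chevE6.group F) := by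
    rw [hcard]
    exact (h1.mul_left _).mul_right _
  rcases (hpp.out.dvd_mul).1 h2 with h3 | h3
  · exfalso
    have h4 : p ∣ 3 := h3.trans (Nat.gcd_dvd_left _ _)
    have h5 := (Nat.prime_dvd_prime_iff_eq hpp.out Nat.prime_three).1 h4
    subst h5
    revert h3p
    decide
  · exact h3

theorem e6_b {p : ℕ} [hpp : Fact p.Prime] (hp2 : p ≠ 2) (F : Type) [Field F] [Fintype F]
    (he : orderOf ((Fintype.card F : ℕ) : ZMod p) = 3) : Ev p ↥(Lie.chevE6.group F) := by
  obtain ⟨r, n, hr, hc, hn, hF⟩ := exists_char F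
  have hrf : Fact r.Prime := ⟨hr⟩
  obtain ⟨hpq, h3p⟩ := prime_of_order (by decide) he
  have hsimple : IsSimpleGroup ↥(chevE6.group F) ∧ ¬ IsMulCommutative ↥(chevE6.group F) :=
    S1054.result chevE6 (by simp)
  have hZ := H696.GmnUntw.center_eq_bot_of_simple hsimple
  have hp3 : ¬ p ∣ 2 * Nat.gcd 3 (r ^ n - 1) := by
    intro h
    rcases (hpp.out.dvd_mul).1 h with h | h
    · exact hp2 ((Nat.prime_dvd_prime_iff_eq hpp.out Nat.prime_two).1 h)
    · have h5 := (Nat.prime_dvd_prime_iff_eq hpp.out Nat.prime_three).1 (h.trans (Nat.gcd_dvd_left _ _))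
      subst h5
      revert h3p
      decide
  have hd := dvd_card_E6 (p := p) he
  have h7 : 7 ≤ p := by
    have h1 := hpp.out.two_le
    by_contra h
    push Not at h
    interval_cases p
    · exact hp2 rfl
    · revert h3p; decide
    · exact absurd hpp.out (by decide)
    · revert h3p; decide
    · exact absurd hpp.out (by decide)
  have hW : ¬ p ∣ [2, 5, 6, 8, 9, 12].prod := by
    intro h4
    have h5 : p ∣ 2 ^ 7 * 3 ^ 4 * 5 := by
      have : [2, 5, 6, 8, 9, 12].prod = 2 ^ 7 * 3 ^ 4 * 5 := by decide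
      rwa [this] at h4
    rcases (Nat.Prime.dvd_mul hpp.out).1 h5 with h6 | h6
    · rcases (Nat.Prime.dvd_mul hpp.out).1 h6 with h7 | h7
      · have := Nat.le_of_dvd (by decide) (hpp.out.dvd_of_dvd_pow h7)
        omega
      · have := Nat.le_of_dvd (by decide) (hpp.out.dvd_of_dvd_pow h7)
        omega
    · have := Nat.le_of_dvd (by decide) h6
      omega
  refine ev_of_field (stab_group chevE6 F) hp2 hZ (fun σ hσ => H967.FaBase.not_inner (by simp) σ hσ) hn hF
    (c := 2 * Nat.gcd 3 (r ^ n - 1)) (by rw [S2123.result r n hF]) hp3 (abelian_E6 rfl hpq hW hd) ?_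
  rintro σ ⟨k, hk⟩
  refine exists_fixed_real _ σ (map_group_le chevE6 (Fx σ).subtype) ?_
  have : Fintype ↥(Fx σ) := Fintype.ofFinite _
  have he' : orderOf ((Fintype.card ↥(Fx σ) : ℕ) : ZMod p) = 3 := by
    rw [← Nat.card_eq_fintype_card, card_fixed σ hk, he]
  have h1 := H720.RowsSix.E6' (F := ↥(Fx σ)) rfl hpp.out (by omega) (prime_of_order (by decide) he').1
    (dvd_card_E6 he')
  rcases h1 with h1 | ⟨h1, -⟩
  · exact h1
  · rw [he'] at h1
    omega

end Cfsg.Agent.H142.OnE6b
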