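import Mathlib
import Cfsg.Agent.H142.RegOwn
import Cfsg.Agent.H378.TwRowsF
import Cfsg.Agent.H524.LieRow

/-!
# S4129, own characteristic: 3D4, 2E6, 2F4, and the rows of the exceptional groups with a torus of cyclotomic order (helper142)

* `own_3D4`, `own_2E6`, `own_2F4`;
* `regB_g2`, `regB_f4`, `regB_e6`, `regB_e8`, `regB_3d4`, `regB_2e6`, `regB_2f4` : `RegB S p q`, all primes `p`.
-/

set_option autoImplicit false
set_option linter.unusedSectionVars false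

namespace Cfsg.Agent.H142.RegOwn

open Subgroup Polynomial Cfsg.Agent.H524.DirRed Cfsg.Agent.H524.RegTool Cfsg.Agent.H378.ExcAdj
open Cfsg.Lie Cfsg.Agent.ChevalleyStructure.CoxeterGeomTypes Cfsg.Agent.BpExc.RowsUntw Cfsg.Agent.BpExc.FamInst

universe u

/-- the prime power `q` with `|K| = q ^ (e + 1)` -/
theorem exists_pow' {K : Type u} [Field K] [Fintype K] {l : ℕ} [CharP K l] {q e : ℕ} (hq : IsPrimePow q)
    (hK : Fintype.card K = q ^ (e + 1)) : l.Prime ∧ l ∣ q ∧ ∃ n, q = l ^ n := by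
  obtain ⟨hl, hlq, n, hn⟩ := exists_pow K l
  rw [Nat.card_eq_fintype_card, hK] at hlq hn
  have h1 : l ∣ q := hl.dvd_of_dvd_pow hlq
  obtain ⟨p, k, hp, hk, hpk⟩ := hq
  have h2 : p = l := by
    have h3 : l ∣ p ^ k := hpk.symm ▸ h1
    exact ((Nat.prime_dvd_prime_iff_eq hl hp.nat_prime).1 (hl.dvd_of_dvd_pow h3)).symm
  exact ⟨hl, h1, k, by rw [← hpk, h2]⟩

theorem own_3D4 {K : Type u} [Field K] [Fintype K] {l : ℕ} [CharP K l] {q0 : ℕ} (hq0 : IsPrimePow q0)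
    (hK : Fintype.card K = q0 ^ 3) {q : ℕ} (hq : q.Prime) (hd : q ∣ Nat.card ↥(twistedD4 K q0)) :
    RegB ↥(twistedD4 K q0) l q := by
  obtain ⟨hl, hlq, n, hn⟩ := exists_pow' (l := l) (e := 2) hq0 hK
  have hF : 1 < q0 := hq0.one_lt
  have hc := Cfsg.Agent.S1067.result hq0 hK
  have h2F : (2 : ℤ) ≤ (q0 : ℤ) := by exact_mod_cast hF
  refine reg_of_cent (m := 12) (by norm_num)
    (fun x r hr hx ho => (H378.TwRows.cent_3D4 hq0 hK hr hx ho).2) hl hlq hq hd ?_ ?_ ?_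
  · obtain ⟨r, hr, ho, hrd⟩ := exists_prime (q := q0) (m := 12) (one_lt_cv (eval_cyc12 _) (lt_quartic h2F)) fun s hs h12 => not_dvd_12 (prime_dvd_twelve hs h12)
    refine ⟨r, hr, ho, ?_⟩
    rw [hc]
    refine (hrd.trans (cv_dvd (eval_cyc12 _) (z := (q0 : ℤ) ^ 4 + (q0 : ℤ) ^ 2 + 1) ?_)).mul_left _
    push_cast
    ring
  · obtain ⟨s, hs, hsl, h23, hsd⟩ := exists_two_three hl hn
    refine ⟨s, hs, hsl, ?_, not_dvd_12 h23⟩
    rw [hc]
    exact ((hsd.mul_left _).mul_right _).mul_right _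
  · intro h1 h2
    exact absurd h1 (not_dvd_12 (prime_dvd_twelve hq h2))

theorem own_2F4 {K : Type u} [Field K] [Fintype K] {m : ℕ} (hK : Fintype.card K = 2 ^ (2 * m + 1)) {q : ℕ}
    (hq : q.Prime) (hd : q ∣ Nat.card ↥(twistedF4 K (2 ^ m))) : RegB ↥(twistedF4 K (2 ^ m)) 2 q := by
  have hcK : Nat.card K = 2 ^ (2 * m + 1) := by rw [Nat.card_eq_fintype_card, hK]
  have hF : 1 < Nat.card K := Finite.one_lt_card
  have hc := Cfsg.Agent.S1068.result hK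
  rw [← hcK] at hc
  have h2F : (2 : ℤ) ≤ (Nat.card K : ℤ) := by exact_mod_cast hF
  refine reg_of_cent (q0 := Nat.card K) (m := 12) (by norm_num)
    (fun x r hr hx ho => (H378.TwRowsF.cent_2F4 hK hr hx ho).2) Nat.prime_two
    (by rw [hcK]; exact dvd_pow_self 2 (by omega)) hq hd ?_ ?_ ?_
  · obtain ⟨r, hr, ho, hrd⟩ := exists_prime (q := Nat.card K) (m := 12) (one_lt_cv (eval_cyc12 _) (lt_quartic h2F)) fun s hs h12 => not_dvd_12 (prime_dvd_twelve hs h12)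
    refine ⟨r, hr, ho, ?_⟩
    rw [hc]
    refine (hrd.trans (cv_dvd (eval_cyc12 _) (z := (Nat.card K : ℤ) ^ 2 + 1) ?_)).mul_left _
    push_cast
    ring
  · refine ⟨3, Nat.prime_three, by norm_num, ?_, not_dvd_12 (Or.inr rfl)⟩
    rw [hc]
    refine Dvd.dvd.mul_right (Dvd.dvd.mul_left ?_ _) _
    have h : ¬ 3 ∣ Nat.card K := by
      intro h
      rw [hcK] at h
      have := Nat.prime_three.dvd_of_dvd_pow h
      norm_num at this
    have h1 : Nat.card K % 3 = 1 ∨ Nat.card K % 3 = 2 := by omega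
    have h3 : Nat.card K ^ 4 % 3 = 1 := by
      rcases h1 with h1 | h1 <;> rw [Nat.pow_mod, h1]
    omega
  · intro h1 h2
    exact absurd h1 (not_dvd_12 (prime_dvd_twelve hq h2))

theorem own_2E6 {K : Type u} [Field K] [Fintype K] {l : ℕ} [CharP K l] {q0 : ℕ} (hq0 : IsPrimePow q0)
    (hK : Fintype.card K = q0 ^ 2) {q : ℕ} (hq : q.Prime) (hd : q ∣ Nat.card ↥(twistedE6 K q0)) :
    RegB ↥(twistedE6 K q0) l q := by
  obtain ⟨hl, hlq, n, hn⟩ := exists_pow' (l := l) (e := 1) hq0 hK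
  have hF : 1 < q0 := hq0.one_lt
  have hc := Cfsg.Agent.S1066.result hq0 hK
  have hdiv : ∀ r : ℕ, r.Prime → r ≠ 3 → r ∣ q0 ^ 36 * (q0 ^ 2 - 1) * (q0 ^ 5 + 1) * (q0 ^ 6 - 1) * (q0 ^ 8 - 1) *
      (q0 ^ 9 + 1) * (q0 ^ 12 - 1) → r ∣ Nat.card ↥(twistedE6 K q0) := by
    intro r hr h3 h
    rw [← hc] at h
    rcases hr.dvd_mul.1 h with h1 | h1
    · exact absurd ((Nat.prime_dvd_prime_iff_eq hr Nat.prime_three).1 (h1.trans (Nat.gcd_dvd_left _ _))) h3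
    · exact h1
  have h2F : (2 : ℤ) ≤ (q0 : ℤ) := by exact_mod_cast hF
  have h64 : (8 : ℤ) ≤ (q0 : ℤ) ^ 3 := by
    calc (8 : ℤ) = 2 ^ 3 := by norm_num
      _ ≤ _ := by gcongr
  refine reg_of_cent (m := 18) (by norm_num)
    (fun x r hr hx ho => (H378.TwRows.cent_2E6 hq0 hK hr hx ho).2) hl hlq hq hd ?_ ?_ ?_
  · obtain ⟨r, hr, hr3, ho, hrd⟩ := exists_prime_three (q := q0) (m := 18) (by
      rw [cv, eval_cyc18]
      have : (3 : ℤ) < (q0 : ℤ) ^ 6 - (q0 : ℤ) ^ 3 + 1 := by nlinarith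
      omega) nine_not_dvd_18 (by
        intro s hs h3 h9
        rcases prime_dvd_18 hs h9 with rfl | rfl
        · exact not_dvd_18 (Or.inl rfl)
        · exact absurd rfl h3)
    refine ⟨r, hr, ho, hdiv r hr hr3 ?_⟩
    refine Dvd.dvd.mul_right (Dvd.dvd.mul_left (hrd.trans (cv_dvd (eval_cyc18 _) (z := (q0 : ℤ) ^ 3 + 1) ?_)) _) _
    push_cast
    ring
  · obtain ⟨s, hs, hsl, h25, hsd⟩ := exists_two_five hl hn
    refine ⟨s, hs, hsl, hdiv s hs ?_ ?_, not_dvd_18 h25⟩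
    · rcases h25 with rfl | rfl <;> norm_num
    · exact ((hsd.mul_left _).mul_right _).mul_right _
  · intro h1 h2
    have hq3 : q = 3 := by
      rcases prime_dvd_18 hq h2 with rfl | rfl
      · exact absurd h1 (not_dvd_18 (Or.inl rfl))
      · rfl
    subst hq3
    refine ⟨2, ?_, by norm_num; exact nine_not_dvd_18⟩
    have h3 := mod_of_three_dvd_18 h1
    have hg : Nat.gcd 3 (q0 + 1) = 3 := Nat.gcd_eq_left (by omega)
    rw [hg] at hc
    obtain ⟨a, ha⟩ : 3 ∣ q0 ^ 2 - 1 := by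
      have : q0 ^ 2 % 3 = 1 := by rw [Nat.pow_mod, h3]
      omega
    obtain ⟨b, hb⟩ : 3 ∣ q0 ^ 5 + 1 := by
      have : q0 ^ 5 % 3 = 2 := by rw [Nat.pow_mod, h3]
      omega
    obtain ⟨c, hc'⟩ : 3 ∣ q0 ^ 6 - 1 := by
      have : q0 ^ 6 % 3 = 1 := by rw [Nat.pow_mod, h3]
      omega
    rw [ha, hb, hc'] at hc
    refine ⟨q0 ^ 36 * a * b * c * (q0 ^ 8 - 1) * (q0 ^ 9 + 1) * (q0 ^ 12 - 1), ?_⟩
    refine Nat.eq_of_mul_eq_mul_left (show 0 < 3 by norm_num) ?_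
    rw [hc]
    ring

/-! ### membership in `IsLieTypeChar` -/

theorem lie_exc {S : Type u} [Group S] {l : ℕ} (h : IsExceptionalChevChar l S) : IsLieTypeChar l S :=
  Or.inr (Or.inr (Or.inr (Or.inr (Or.inr (Or.inr (Or.inl h))))))

theorem lie_tw {S : Type u} [Group S] {l : ℕ} (h : IsTwistedE6D4Char l S) : IsLieTypeChar l S :=
  Or.inr (Or.inr (Or.inr (Or.inr (Or.inr (Or.inr (Or.inr (Or.inl h)))))))

/-! ### the rows, all primes `p` -/

section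

variable {S : Type u} [Group S] [Finite S] [IsSimpleGroup S] (hna : ¬ ∀ a b : S, a * b = b * a)

include hna

/-- `p ≠ l` by the regular unipotent elements -/
theorem regB_of_own {l : ℕ} (h : Cfsg.IsLieTypeChar l S) {q : ℕ} (hown : RegB S l q) {p : ℕ} (hp : p.Prime)
    (hq : q.Prime) (hd : q ∣ Nat.card S) : RegB S p q := by
  by_cases hpl : p = l
  · rw [hpl]; exact hown
  · exact H524.LieRow.regB_lie hna h hp hq hpl hd

variable {p q : ℕ} (hp : p.Prime) (hq : q.Prime) (hd : q ∣ Nat.card S)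

include hp hq hd

theorem regB_g2 (h : IsoChevG2 S) : RegB S p q := by
  obtain ⟨F, i1, i2, h3, ⟨e⟩⟩ := h
  obtain ⟨l, hl⟩ := CharP.exists F
  have h' : IsExceptionalChevChar l S := ⟨F, i1, i2, hl, Or.inl ⟨h3, ⟨e⟩⟩⟩
  exact regB_of_own hna (lie_exc h') ((own_G2 (l := l) (F := F) hq
    (by rwa [← Nat.card_congr e.toEquiv])).congr e.symm) hp hq hd

theorem regB_f4 (h : IsoF4 S) : RegB S p q := by
  obtain ⟨F, i1, i2, ⟨e⟩⟩ := h
  obtain ⟨l, hl⟩ := CharP.exists F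
  have h' : IsExceptionalChevChar l S := ⟨F, i1, i2, hl, Or.inr (Or.inl ⟨e⟩)⟩
  exact regB_of_own hna (lie_exc h') ((own_F4 (l := l) (F := F) hq
    (by rwa [← Nat.card_congr e.toEquiv])).congr e.symm) hp hq hd

theorem regB_e6 (h : IsoChevE6 S) : RegB S p q := by
  obtain ⟨F, i1, i2, ⟨e⟩⟩ := h
  obtain ⟨l, hl⟩ := CharP.exists F
  have h' : IsExceptionalChevChar l S := ⟨F, i1, i2, hl, Or.inr (Or.inr (Or.inl ⟨e⟩))⟩
  exact regB_of_own hna (lie_exc h') ((own_E6 (l := l) (F := F) hq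
    (by rwa [← Nat.card_congr e.toEquiv])).congr e.symm) hp hq hd

theorem regB_e8 (h : IsoE8 S) : RegB S p q := by
  obtain ⟨F, i1, i2, ⟨e⟩⟩ := h
  obtain ⟨l, hl⟩ := CharP.exists F
  have h' : IsExceptionalChevChar l S := ⟨F, i1, i2, hl, Or.inr (Or.inr (Or.inr (Or.inr ⟨e⟩)))⟩
  exact regB_of_own hna (lie_exc h') ((own_E8 (l := l) (F := F) hq
    (by rwa [← Nat.card_congr e.toEquiv])).congr e.symm) hp hq hd

theorem regB_3d4 (h : Iso3D4 S) : RegB S p q := by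
  obtain ⟨K, i1, i2, q0, hq0, hK, ⟨e⟩⟩ := h
  obtain ⟨l, hl⟩ := CharP.exists K
  have h' : IsTwistedE6D4Char l S := ⟨K, i1, i2, hl, q0, hq0, Or.inr ⟨hK, ⟨e⟩⟩⟩
  exact regB_of_own hna (lie_tw h') ((own_3D4 (l := l) hq0 hK hq
    (by rwa [← Nat.card_congr e.toEquiv])).congr e.symm) hp hq hd

theorem regB_2e6 (h : Iso2E6 S) : RegB S p q := by
  obtain ⟨K, i1, i2, q0, hq0, hK, ⟨e⟩⟩ := h
  obtain ⟨l, hl⟩ := CharP.exists K
  have h' : IsTwistedE6D4Char l S := ⟨K, i1, i2, hl, q0, hq0, Or.inl ⟨hK, ⟨e⟩⟩⟩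
  exact regB_of_own hna (lie_tw h') ((own_2E6 (l := l) hq0 hK hq
    (by rwa [← Nat.card_congr e.toEquiv])).congr e.symm) hp hq hd

theorem regB_2f4 (h : Iso2F4 S) : RegB S p q := by
  have h' : IsLieTypeChar 2 S :=
    Or.inr (Or.inr (Or.inr (Or.inr (Or.inr (Or.inr (Or.inr (Or.inr (Or.inr (Or.inl ⟨rfl, h⟩)))))))))
  obtain ⟨K, _, _, m, hm, hK, ⟨e⟩⟩ := h
  exact regB_of_own hna h' ((own_2F4 hK hq (by rwa [← Nat.card_congr e.toEquiv])).congr e.symm) hp hq hd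

end

end Cfsg.Agent.H142.RegOwn
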